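import Groth.Agent.ComodLib.CharFinite
import Groth.Agent.ComodLib.Mu
import Groth.Prelude.Def_GLin4

/-! A linear action factors through a closed embedding of the group into a general linear group. -/

set_option autoImplicit false
set_option linter.style.haveILetI false
set_option linter.unusedSectionVars false

open scoped TensorProduct

universe u w

namespace Groth.Agent.HMGit

variable {k : Type u} [Field k] {A : Type u} [CommRing A] [HopfAlgebra k A]

/-- The bialgebra map of a matrix comodule. -/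
theorem exists_bialgHom_of_matrix {n : ℕ} (M : Fin n → Fin n → A) (hM : ComodLib.IsComodMatrix k M) :
    ∃ π : CoordGrp.GLn n k →ₐc[k] A, ∀ i j, π (CoordGrp.GLn.X i j) = M i j := by
  let Mm : Matrix (Fin n) (Fin n) A := Matrix.of M
  have hcomul : Coalgebra.comul (R := k) Mm.det = Mm.det ⊗ₜ[k] Mm.det := by
    show Bialgebra.comulAlgHom k A Mm.det = _
    have hP : (Bialgebra.comulAlgHom k A).mapMatrix Mm =
        (Algebra.TensorProduct.includeLeft : A →ₐ[k] A ⊗[k] A).mapMatrix Mm *
          (Algebra.TensorProduct.includeRight : A →ₐ[k] A ⊗[k] A).mapMatrix Mm := by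
      refine Matrix.ext fun i j => ?_
      show Coalgebra.comul (R := k) (M i j) = _
      rw [hM.comul, Matrix.mul_apply]
      simp [Mm]
    rw [AlgHom.map_det, hP, Matrix.det_mul, ← AlgHom.map_det, ← AlgHom.map_det]
    simp
  have hcounit : Coalgebra.counit (R := k) Mm.det = 1 := by
    show Bialgebra.counitAlgHom k A Mm.det = _
    rw [AlgHom.map_det]
    convert Matrix.det_one (n := Fin n) (R := k)
    ext i j
    show Coalgebra.counit (R := k) (M i j) = _
    rw [hM.counit]
    simp [Matrix.one_apply]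
  have hinv : Mm.det * HopfAlgebraStruct.antipode (R := k) Mm.det = 1 := by
    have := HopfAlgebra.mul_antipode_lTensor_comul_apply (R := k) Mm.det
    rw [hcomul, hcounit] at this
    simpa using this
  let f : CoordGrp.GLn n k →ₐ[k] A := CoordGrp.GLn.pt n k Mm _ hinv
  have hX : ∀ i j, f (CoordGrp.GLn.X i j) = M i j := fun i j => CoordGrp.GLn.pt_X _ _ _ i j
  have hD : f CoordGrp.GLn.Dinv = HopfAlgebraStruct.antipode (R := k) Mm.det := CoordGrp.GLn.pt_Dinv _ _ _
  have hgS : Bialgebra.counitAlgHom k A (HopfAlgebraStruct.antipode (R := k) Mm.det) = 1 := by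
    have := congrArg (Bialgebra.counitAlgHom k A) hinv
    rw [map_mul, map_one, show Bialgebra.counitAlgHom k A Mm.det = 1 from hcounit, one_mul] at this
    exact this
  have hΔS : Bialgebra.comulAlgHom k A (HopfAlgebraStruct.antipode (R := k) Mm.det) =
      HopfAlgebraStruct.antipode (R := k) Mm.det ⊗ₜ[k] HopfAlgebraStruct.antipode (R := k) Mm.det := by
    have h1 := congrArg (Bialgebra.comulAlgHom k A) hinv
    rw [map_mul, map_one, show Bialgebra.comulAlgHom k A Mm.det = Mm.det ⊗ₜ[k] Mm.det from hcomul] at h1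
    refine (left_inv_eq_right_inv ?_ h1).symm
    rw [Algebra.TensorProduct.tmul_mul_tmul, mul_comm, hinv, Algebra.TensorProduct.one_def]
  refine ⟨BialgHom.ofAlgHom f ?_ ?_, hX⟩
  · refine CoordGrp.GLn.algHom_ext (fun i j => ?_) ?_
    · show Coalgebra.counit (R := k) (f (CoordGrp.GLn.X i j)) = Coalgebra.counit (R := k) (CoordGrp.GLn.X i j : CoordGrp.GLn n k)
      rw [hX, hM.counit, CoordGrp.GLn.counit_X]
    · show Bialgebra.counitAlgHom k A (f (CoordGrp.GLn.Dinv : CoordGrp.GLn n k)) = Coalgebra.counit (R := k) (CoordGrp.GLn.Dinv : CoordGrp.GLn n k)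
      rw [hD, hgS, CoordGrp.GLn.counit_Dinv]
  · refine CoordGrp.GLn.algHom_ext (fun i j => ?_) ?_
    · show Algebra.TensorProduct.map f f (Coalgebra.comul (R := k) (CoordGrp.GLn.X i j)) =
        Coalgebra.comul (R := k) (f (CoordGrp.GLn.X i j))
      rw [hX, hM.comul, CoordGrp.GLn.comul_X, map_sum]
      simp [hX]
    · show Algebra.TensorProduct.map f f (Coalgebra.comul (R := k) (CoordGrp.GLn.Dinv : CoordGrp.GLn n k)) =
        Bialgebra.comulAlgHom k A (f CoordGrp.GLn.Dinv)
      rw [hD, hΔS, CoordGrp.GLn.comul_Dinv, Algebra.TensorProduct.map_tmul, hD]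

/-- The block sum of two matrix comodules. -/
theorem isComodMatrix_blocks {X Y : Type} [Fintype X] [DecidableEq X] [Fintype Y] [DecidableEq Y]
    {m : X → X → A} {m' : Y → Y → A} (hm : ComodLib.IsComodMatrix k m) (hm' : ComodLib.IsComodMatrix k m') :
    ComodLib.IsComodMatrix k (fun i j : X ⊕ Y => Matrix.fromBlocks (Matrix.of m) 0 0 (Matrix.of m') i j) where
  comul i j := by
    rcases i with i | i <;> rcases j with j | j <;>
      simp [Fintype.sum_sum_type, hm.comul, hm'.comul]
  counit i j := by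
    rcases i with i | i <;> rcases j with j | j <;>
      simp [hm.counit, hm'.counit]

/-- A linear action is the restriction of a representation inside an embedding in a general linear group. -/
theorem exists_embedding [Algebra.FiniteType k A] (ι : Type w) [Fintype ι] [HopfRep.Comod k A (MvPolynomial ι k)]
    [GLin.IsCoactAlg k A (MvPolynomial ι k)] (hlin : GLin.IsLinear k A ι) :
    ∃ (N : ℕ) (π : CoordGrp.GLn N k →ₐc[k] A) (e : ι → Fin N), Function.Injective e ∧ Function.Surjective π ∧
      (∀ j q, q ∉ Set.range e → π (CoordGrp.GLn.X (e j) q) = 0) ∧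
      ∀ i, HopfRep.Comod.coact (k := k) (A := A) (MvPolynomial.X i : MvPolynomial ι k) =
        ∑ j, (MvPolynomial.X j : MvPolynomial ι k) ⊗ₜ[k] π (CoordGrp.GLn.X (e j) (e i)) := by
  classical
  choose m hm using hlin
  have hcomul : ∀ i l, Coalgebra.comul (R := k) (m i l) = ∑ j, m j l ⊗ₜ[k] m i j := fun i l => by
    have h := LinearMap.congr_fun (HopfRep.Comod.coassoc (k := k) (A := A) (V := MvPolynomial ι k)) (MvPolynomial.X i)
    simp only [LinearMap.comp_apply, LinearEquiv.coe_coe, hm, map_sum, LinearMap.rTensor_tmul,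
      LinearMap.lTensor_tmul, TensorProduct.sum_tmul, TensorProduct.assoc_tmul] at h
    have h2 := congrArg (fun z => TensorProduct.lid k (A ⊗[k] A)
      ((MvPolynomial.lcoeff k (Finsupp.single l 1)).rTensor (A ⊗[k] A) z)) h
    simp only [map_sum, LinearMap.rTensor_tmul, TensorProduct.lid_tmul, MvPolynomial.lcoeff_apply,
      MvPolynomial.coeff_X', Finsupp.single_left_inj one_ne_zero, ite_smul, one_smul, zero_smul,
      Finset.sum_ite_eq', Finset.mem_univ, if_true] at h2
    exact h2.symm
  have hcounit : ∀ i l, Coalgebra.counit (R := k) (m i l) = if l = i then 1 else 0 := fun i l => by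
    have h := LinearMap.congr_fun (HopfRep.Comod.counit_comp (k := k) (A := A) (V := MvPolynomial ι k)) (MvPolynomial.X i)
    simp only [LinearMap.comp_apply, hm, map_sum, LinearMap.lTensor_tmul, LinearMap.flip_apply,
      TensorProduct.mk_apply] at h
    have h2 := congrArg (fun z => MvPolynomial.coeff (Finsupp.single l 1) (TensorProduct.rid k _ z)) h
    simp only [map_sum, TensorProduct.rid_tmul, MvPolynomial.coeff_sum, MvPolynomial.coeff_smul, smul_eq_mul,
      MvPolynomial.coeff_X', Finsupp.single_left_inj one_ne_zero, mul_ite, mul_one, mul_zero,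
      Finset.sum_ite_eq', Finset.mem_univ, if_true, one_smul] at h2
    rw [h2]
    by_cases hli : l = i
    · simp [hli]
    · simp [hli, Ne.symm hli]
  let eι : Fin (Fintype.card ι) ≃ ι := (Fintype.equivFin ι).symm
  have hM1 : ComodLib.IsComodMatrix k fun a b => m (eι b) (eι a) :=
    ⟨fun a b => by rw [hcomul]; exact (Equiv.sum_comp eι (fun j => m j (eι a) ⊗ₜ[k] m (eι b) j)).symm,
      fun a b => by simp [hcounit, eι.injective.eq_iff]⟩
  obtain ⟨n, M2, hM2, hgen⟩ := ComodLib.exists_generating_matrix (k := k) (A := A)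
  have hM3 := isComodMatrix_blocks hM1 hM2
  set M3 := fun i j : Fin (Fintype.card ι) ⊕ Fin n =>
    Matrix.fromBlocks (Matrix.of fun a b => m (eι b) (eι a)) 0 0 (Matrix.of M2) i j
  let σ := (Fintype.equivFin (Fin (Fintype.card ι) ⊕ Fin n)).symm
  obtain ⟨π, hπ⟩ := exists_bialgHom_of_matrix (k := k) (fun a b => M3 (σ a) (σ b))
    ⟨fun a b => by rw [hM3.comul]; exact (Equiv.sum_comp σ (fun l => M3 (σ a) l ⊗ₜ[k] M3 l (σ b))).symm,
      fun a b => by simp [hM3.counit, σ.injective.eq_iff]⟩
  refine ⟨_, π, fun i => σ.symm (Sum.inl (eι.symm i)), fun i j h => by simpa using h, fun a => ?_,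
    fun j q hq => ?_, fun i => ?_⟩
  · let πa : CoordGrp.GLn (Fintype.card (Fin (Fintype.card ι) ⊕ Fin n)) k →ₐ[k] A :=
      (π : CoordGrp.GLn (Fintype.card (Fin (Fintype.card ι) ⊕ Fin n)) k →ₐ[k] A)
    have hle : Algebra.adjoin k (Set.range fun p : Fin n × Fin n => M2 p.1 p.2) ≤ πa.range :=
      Algebra.adjoin_le (by
        rintro _ ⟨⟨p, q⟩, rfl⟩
        exact ⟨CoordGrp.GLn.X (σ.symm (Sum.inr p)) (σ.symm (Sum.inr q)), by
          show π (CoordGrp.GLn.X _ _) = M2 p q
          simp [hπ, M3]⟩)
    exact hle (hgen ▸ Algebra.mem_top)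
  · rw [hπ]
    rcases hq' : σ q with a | b
    · exact absurd ⟨eι a, by simp [← hq']⟩ hq
    · simp [M3]
  · rw [hm]
    exact Finset.sum_congr rfl fun j _ => by simp [hπ, M3]

end Groth.Agent.HMGit
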