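import Groth.Agent.HMGit.Core
import Groth.Agent.HMGit.Embed
import Groth.Agent.FormsSLLib.HM
import Groth.Agent.ComodLib.StableClosed
import Groth.Agent.S19603
import Mathlib.GroupTheory.OrderOfElement

/-! The numerical criterion for vectors, for linearly reductive groups in characteristic zero. -/

set_option autoImplicit false
set_option linter.style.haveILetI false
set_option linter.unusedSectionVars false

open WithConv
open scoped LaurentPolynomial TensorProduct

universe u

namespace Groth.Agent.HMGit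

variable {k : Type u} [Field k] {A : Type u} [CommRing A] [HopfAlgebra k A]
variable {ι : Type u} [Fintype ι] [HopfRep.Comod k A (MvPolynomial ι k)] [GLin.IsCoactAlg k A (MvPolynomial ι k)]

/-- The valued points at which the orbit of a vector is bounded give one-parameter subgroups. -/
theorem exists_lam_of_valuation [IsAlgClosed k] [CharZero k] [Algebra.FiniteType k A]
    (hA : HopfRep.IsLinearlyReductive k A) (hlin : GLin.IsLinear k A ι) (v : ι → k)
    {K : Type u} [Field K] (ψ : A →+* K) (V : ValuationSubring K)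
    (hV : ∀ r, ψ (GLin.orbitHom k A (GLin.vecPt k ι v) r) ∈ V) :
    ∃ lam : A →ₐc[k] k[T;T⁻¹],
      (∀ i n, n < 0 → (ComodLib.lamCoord k A lam v i).coeff n = 0) ∧
      ((∀ i, ψ (GLin.orbitHom k A (GLin.vecPt k ι v) (MvPolynomial.X i)) ∈ V.nonunits) →
        ∀ i, (ComodLib.lamCoord k A lam v i).coeff 0 = 0) ∧
      ((∃ a, ψ a ∉ V) → ¬ SGA3t2b.IsTrivialBialgHom lam) := by
  classical
  obtain ⟨N, π, e, he, hπ, hoff, hm⟩ := exists_embedding ι hlin
  letI : Algebra k K := (ψ.comp (algebraMap k A)).toAlgebra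
  let ψ' : A →ₐ[k] K := ⟨ψ, fun _ => rfl⟩
  have hk : ∀ c : k, algebraMap k K c ∈ V := fun c => by
    have := hV (algebraMap k _ c)
    rwa [AlgHom.commutes] at this
  let w : Fin N → k := Function.extend e v 0
  have hrow : ∀ {C : Type u} [CommRing C] [Algebra k C] (φ : A →ₐ[k] C) (q : Fin N),
      rowVec π φ w q = ∑ j, algebraMap k C (v j) * φ (π (CoordGrp.GLn.X (e j) q)) := by
    intro C _ _ φ q
    refine (Finset.sum_of_injOn e he.injOn (fun _ _ => Finset.mem_coe.mpr (Finset.mem_univ _)) (fun p _ hp => ?_)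
      fun j _ => by simp [w, he.extend_apply]).symm
    simp [w, Function.extend_apply' v (0 : Fin N → k) p (by simpa using hp)]
  have hrow' : ∀ {C : Type u} [CommRing C] [Algebra k C] (φ : A →ₐ[k] C) (i : ι),
      rowVec π φ w (e i) = φ (GLin.orbitHom k A (GLin.vecPt k ι v) (MvPolynomial.X i)) := by
    intro C _ _ φ i
    rw [hrow, ComodLib.orbitCoord_eq hm, map_sum]
    exact Finset.sum_congr rfl fun j _ => by rw [map_smul, Algebra.smul_def]
  have hrow0 : ∀ {C : Type u} [CommRing C] [Algebra k C] (φ : A →ₐ[k] C) (q : Fin N), q ∉ Set.range e →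
      rowVec π φ w q = 0 := by
    intro C _ _ φ q hq
    rw [hrow]
    exact Finset.sum_eq_zero fun j _ => by rw [hoff j q hq, map_zero, mul_zero]
  obtain ⟨lam, h1, h2, h3⟩ := exists_oneParam π hπ hA V hk ψ' w fun q => by
    by_cases hq : q ∈ Set.range e
    · obtain ⟨i, rfl⟩ := hq
      rw [hrow']
      exact hV _
    · rw [hrow0 _ q hq]
      exact V.zero_mem
  refine ⟨lam, fun i n hn => ?_, fun hs i => ?_, h3⟩
  · have := h1 (e i) n hn
    rwa [hrow'] at this
  · have := h2 (fun q => by
      by_cases hq : q ∈ Set.range e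
      · obtain ⟨j, rfl⟩ := hq
        rw [hrow']
        exact hs j
      · rw [hrow0 _ q hq]
        exact V.nonunits.zero_mem) (e i)
    rwa [hrow'] at this

theorem inOrbitClosure_of_isLimit {lam : A →ₐc[k] k[T;T⁻¹]} {x y : MvPolynomial ι k →ₐ[k] k}
    (h : GLin.IsLimit k A lam x y) : GLin.InOrbitClosure k A x y := by
  obtain ⟨p, hp, hy⟩ := h
  intro f hf
  have h1 : Polynomial.toLaurentAlg (R := k) (p f) = 0 := by
    rw [← AlgHom.comp_apply, hp, GLin.lamOrbit, AlgHom.comp_apply, RingHom.mem_ker.mp hf, map_zero]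
  have h2 : p f = 0 := Polynomial.toLaurent_injective (h1.trans (map_zero _).symm)
  rw [RingHom.mem_ker, ← hy, AlgHom.comp_apply, h2, map_zero]

/-- The criterion for semistability of a vector. -/
theorem isSemistableVec_iff [IsAlgClosed k] [CharZero k] [Algebra.FiniteType k A]
    (hA : HopfRep.IsLinearlyReductive k A) (hlin : GLin.IsLinear k A ι) (v : ι → k) (hv : v ≠ 0) :
    GLin.IsSemistableVec k A v ↔
      ∀ (lam : A →ₐc[k] k[T;T⁻¹]) (m : ℤ), GLin.IsMu k A lam v m → 0 ≤ m := by
  rw [Groth.Agent.S19603.result k A hA ι hlin v]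
  constructor
  · intro hnot lam m hm
    by_contra hneg
    obtain ⟨h1, -⟩ := (ComodLib.isMu_iff lam v m).mp hm
    exact hnot (inOrbitClosure_of_isLimit ((ComodLib.isLimit_iff lam v fun _ => 0).mpr
      ⟨fun i n hn => h1 i n (by omega), fun i => h1 i 0 (by omega)⟩))
  · intro H hin
    let o := GLin.orbitHom k A (GLin.vecPt k ι v)
    haveI : (RingHom.ker (GLin.vecPt k ι fun _ => (0 : k))).IsPrime := RingHom.ker_isPrime _
    obtain ⟨K, _, ψ, V, hV, hV'⟩ := FormsSLLib.exists_valuation_specialising o.toRingHom _ hin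
    obtain ⟨lam, h1, h2, -⟩ := exists_lam_of_valuation hA hlin v ψ V hV
    obtain ⟨m, hm, -⟩ := ComodLib.existsUnique_isMu lam hv
    obtain ⟨i, hi⟩ := ((ComodLib.isMu_iff lam v m).mp hm).2
    have h0 := H lam m hm
    rcases h0.lt_or_eq with h | h
    · exact hi (h1 i _ (by omega))
    · exact hi (by rw [← h, neg_zero]; exact h2 (fun j => hV' _ (by simp [GLin.vecPt, RingHom.mem_ker])) i)

/-- Evaluation of a Laurent polynomial at a unit. -/
noncomputable def evU (s : kˣ) : k[T;T⁻¹] →ₐ[k] k :=
  AddMonoidAlgebra.lift k k ℤ ((Units.coeHom k).comp (zpowersHom kˣ s))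

theorem evU_T (s : kˣ) (n : ℤ) : evU s (LaurentPolynomial.T n) = ((s ^ n : kˣ) : k) := by
  rw [evU, show (LaurentPolynomial.T n : k[T;T⁻¹]) = AddMonoidAlgebra.single n 1 from rfl,
    AddMonoidAlgebra.lift_single, one_smul]
  rfl

theorem evU_toLaurent (s : kˣ) (p : Polynomial k) :
    evU s (Polynomial.toLaurentAlg p) = Polynomial.aeval (s : k) p := by
  have h : (evU s).comp Polynomial.toLaurentAlg = Polynomial.aeval (s : k) := Polynomial.algHom_ext (by
    rw [AlgHom.comp_apply, Polynomial.toLaurentAlg_apply, Polynomial.toLaurent_X, evU_T, zpow_one,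
      Polynomial.aeval_X])
  exact AlgHom.congr_fun h p

/-- The rational points of a one-parameter subgroup. -/
noncomputable def lamPts (lam : A →ₐc[k] k[T;T⁻¹]) : kˣ →* WithConv (A →ₐ[k] k) where
  toFun s := toConv ((evU s).comp (lam : A →ₐ[k] k[T;T⁻¹]))
  map_one' := ofConv_injective (AlgHom.ext fun a => by
    show evU 1 (lam a) = algebraMap k k (Coalgebra.counit (R := k) a)
    have h : evU (1 : kˣ) = Bialgebra.counitAlgHom k k[T;T⁻¹] := AddMonoidAlgebra.algHom_ext (fun n => by
      show evU 1 (LaurentPolynomial.T n) = Coalgebra.counit (R := k) (LaurentPolynomial.T n : k[T;T⁻¹])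
      rw [evU_T]
      simp) (Subsingleton.elim _ _)
    rw [h]
    exact CoalgHomClass.counit_comp_apply lam a)
  map_mul' s t := by
    have h : toConv (evU (s * t)) = toConv (evU s) * toConv (evU t) := ofConv_injective
      (AddMonoidAlgebra.algHom_ext (fun n => by
        show evU (s * t) (LaurentPolynomial.T n) = (toConv (evU s) * toConv (evU t)) (LaurentPolynomial.T n)
        rw [AlgHom.convMul_apply, LaurentPolynomial.comul_T, Algebra.TensorProduct.lift_tmul, evU_T]
        show _ = evU s (LaurentPolynomial.T n) * evU t (LaurentPolynomial.T n)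
        rw [evU_T, evU_T, mul_zpow, Units.val_mul]) (Subsingleton.elim _ _))
    refine ofConv_injective ?_
    show (toConv (evU (s * t))).ofConv.comp _ = _
    rw [h]
    exact AlgHom.convMul_comp_bialgHom_distrib (toConv (evU s)) (toConv (evU t)) lam

theorem isTrivial_of_finite_range [IsAlgClosed k] [CharZero k] (lam : A →ₐc[k] k[T;T⁻¹])
    (hfin : (Set.range (lamPts lam)).Finite) : SGA3t2b.IsTrivialBialgHom lam := by
  classical
  have hfin' : Finite (lamPts lam).range := hfin.to_subtype
  have h1 : ∀ s, lamPts lam s = 1 := fun s => by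
    let n := Nat.card (lamPts lam).range
    have hn : 0 < n := Nat.card_pos
    obtain ⟨u, hu⟩ := IsAlgClosed.exists_pow_nat_eq (k := k) (s : k) hn
    have hu0 : u ≠ 0 := fun h => s.ne_zero (by rw [← hu, h, zero_pow hn.ne'])
    have hs : s = Units.mk0 u hu0 ^ n := Units.ext (by simp [hu])
    have h2 : (⟨lamPts lam (Units.mk0 u hu0), ⟨_, rfl⟩⟩ : (lamPts lam).range) ^ n = 1 := pow_card_eq_one'
    rw [hs, map_pow]
    exact congrArg Subtype.val h2
  intro a
  obtain ⟨n, f, hf⟩ := (lam a - algebraMap k _ (Coalgebra.counit (R := k) a)).exists_T_pow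
  have hf0 : f = 0 := Polynomial.eq_zero_of_infinite_isRoot f ((Set.infinite_of_injective_forall_mem
    (f := fun m : ℕ => ((m : k) + 1)) (fun x y h => by simpa using h) (fun m => by
      have hm : ((m : k) + 1) ≠ 0 := by exact_mod_cast Nat.succ_ne_zero m
      let s := Units.mk0 _ hm
      show f.IsRoot ((s : kˣ) : k)
      rw [Polynomial.IsRoot.def, ← Polynomial.coe_aeval_eq_eval, ← evU_toLaurent s, Polynomial.toLaurentAlg_apply,
        hf, map_mul, map_sub, AlgHom.commutes]
      have h3 : evU s (lam a) = algebraMap k k (Coalgebra.counit (R := k) a) :=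
        congrArg (fun g : WithConv (A →ₐ[k] k) => g a) (h1 s)
      rw [h3, sub_self, zero_mul])))
  rw [← sub_eq_zero]
  have h4 : (lam a - algebraMap k _ (Coalgebra.counit (R := k) a)) * LaurentPolynomial.T (n : ℤ) = 0 := by
    rw [← hf, hf0, map_zero]
  have h5 := congrArg (· * (LaurentPolynomial.T (-(n : ℤ)) : k[T;T⁻¹])) h4
  simpa only [zero_mul, mul_assoc, ← LaurentPolynomial.T_add, add_neg_cancel, LaurentPolynomial.T_zero, mul_one] using h5

/-- The limit along a one-parameter subgroup is fixed by it. -/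
theorem actPt_lamPts_limit [Infinite k] {lam : A →ₐc[k] k[T;T⁻¹]} {x y : MvPolynomial ι k →ₐ[k] k}
    (h : GLin.IsLimit k A lam x y) (s : kˣ) : GLin.actPt k (lamPts lam s).ofConv y = y := by
  obtain ⟨p, hp, hy⟩ := h
  have hval : ∀ t : kˣ, GLin.actPt k (lamPts lam t).ofConv x = (Polynomial.aeval (t : k)).comp p := fun t =>
    AlgHom.ext fun f => by
      show evU t (GLin.lamOrbit k A lam x f) = Polynomial.aeval (t : k) (p f)
      rw [← hp, AlgHom.comp_apply, evU_toLaurent]
  refine AlgHom.ext fun f => ?_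
  let g := (lamPts lam s).ofConv
  let P : Polynomial k := Algebra.TensorProduct.lift p ((Algebra.ofId k (Polynomial k)).comp g) (fun _ _ => .all ..)
    (HopfRep.Comod.coact (k := k) (A := A) f)
  have hP : ∀ t : k, GLin.actPt k g ((Polynomial.aeval t).comp p) f = Polynomial.aeval t P := fun t => by
    show g (GLin.orbitHom k A _ f) = _
    rw [ComodLib.orbitHom_apply]
    simp only [P]
    generalize HopfRep.Comod.coact (k := k) (A := A) f = z
    induction z using TensorProduct.induction_on with
    | zero => simp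
    | tmul a b => simp
    | add a b ha hb => simp only [map_add, ha, hb]
  have h0 : P = (p f).comp (Polynomial.C (s : k) * Polynomial.X) := by
    refine Polynomial.eq_of_infinite_eval_eq _ _ (Set.Infinite.mono (fun t ht => ?_)
      (Set.finite_singleton (0 : k)).infinite_compl)
    let tu := Units.mk0 t ht
    have h2 := hP t
    rw [show (Polynomial.aeval t).comp p = GLin.actPt k (lamPts lam tu).ofConv x from (hval tu).symm,
      ← ComodLib.actPt_convMul, ← map_mul, hval, AlgHom.comp_apply] at h2
    rw [Set.mem_setOf_eq, ← Polynomial.coe_aeval_eq_eval, ← h2, Polynomial.coe_aeval_eq_eval, Polynomial.coe_aeval_eq_eval,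
      Polynomial.eval_comp]
    simp only [tu, Units.val_mul, Polynomial.eval_mul, Polynomial.eval_C, Polynomial.eval_X]
    rw [show ((Units.mk0 t ht : kˣ) : k) = t from rfl, mul_comm]
  have h3 := hP 0
  rw [hy, h0] at h3
  refine h3.trans ?_
  rw [← hy, AlgHom.comp_apply, Polynomial.coe_aeval_eq_eval, Polynomial.eval_comp]
  simp

/-- The criterion for stability of a vector. -/
theorem isStableVec_iff [IsAlgClosed k] [CharZero k] [Algebra.FiniteType k A]
    (hA : HopfRep.IsLinearlyReductive k A) (hlin : GLin.IsLinear k A ι) (v : ι → k) (hv : v ≠ 0) :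
    GLin.IsStableVec k A v ↔
      ∀ lam : A →ₐc[k] k[T;T⁻¹], ¬ SGA3t2b.IsTrivialBialgHom lam →
        ∀ m : ℤ, GLin.IsMu k A lam v m → 0 < m := by
  classical
  constructor
  · intro hst lam hnt m hm
    by_contra hneg
    refine hnt (isTrivial_of_finite_range lam ?_)
    obtain ⟨h1, -⟩ := (ComodLib.isMu_iff lam v m).mp hm
    have hlim : GLin.IsLimit k A lam (GLin.vecPt k ι v)
        (GLin.vecPt k ι fun i => (ComodLib.lamCoord k A lam v i).coeff 0) :=
      (ComodLib.isLimit_iff lam v _).mpr ⟨fun i n hn => h1 i n (by omega), fun i => rfl⟩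
    have hs := (ComodLib.isStablePt_iff _).mp hst
    obtain ⟨g, hg⟩ := hs.1 _ (inOrbitClosure_of_isLimit hlim)
    have hfin := ComodLib.finite_stab_actPt (toConv g) hs.2
    refine hfin.subset ?_
    rintro _ ⟨s, rfl⟩
    show GLin.actPt k (lamPts lam s).ofConv (GLin.actPt k g _) = GLin.actPt k g _
    rw [← hg]
    exact actPt_lamPts_limit hlim s
  · intro H
    refine SmoothFormLib.isStablePt_of_finite _ ?_
    refine RingHom.IsIntegral.to_finite (fun a => ?_) ?_
    · refine SmoothFormLib.isIntegralElem_of_valuation _ a fun K _ ψ V hV => ?_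
      by_contra hna
      obtain ⟨lam, h1, -, h3⟩ := exists_lam_of_valuation hA hlin v ψ V hV
      obtain ⟨m, hm, -⟩ := ComodLib.existsUnique_isMu lam hv
      obtain ⟨i, hi⟩ := ((ComodLib.isMu_iff lam v m).mp hm).2
      exact hi (h1 i _ (by have := H lam (h3 ⟨a, hna⟩) m hm; omega))
    · refine RingHom.FiniteType.of_comp_finiteType (f := algebraMap k (MvPolynomial ι k)) ?_
      rw [show (GLin.orbitHom k A (GLin.vecPt k ι v)).toRingHom.comp (algebraMap k _) = algebraMap k A from
        (GLin.orbitHom k A (GLin.vecPt k ι v)).comp_algebraMap]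
      exact RingHom.finiteType_algebraMap.mpr inferInstance

end Groth.Agent.HMGit
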