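import Groth.Agent.GrpSchLib.GLnDiag
import Groth.Prelude.Def_GLin5
import Mathlib.RingTheory.HopfAlgebra.Convolution
import Mathlib.Algebra.DualNumber
import Mathlib.LinearAlgebra.Matrix.NonsingularInverse

/-! Points of the general linear group with values in algebras, and their functoriality. -/

set_option autoImplicit false

open WithConv
open scoped LaurentPolynomial

universe u v w

namespace Groth.Agent.HMGit

variable {k : Type u} [Field k] {A : Type u} [CommRing A] [HopfAlgebra k A] {N : ℕ}
variable {C : Type v} [CommRing C] [Algebra k C] {D : Type w} [CommRing D] [Algebra k D]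

open Algebra Bialgebra in
/-- The group of points with values in a commutative algebra. -/
noncomputable scoped instance groupPoints {H : Type*} [CommRing H] [HopfAlgebra k H] :
    Group (WithConv (H →ₐ[k] C)) where
  inv f := toConv (f.ofConv.comp (HopfAlgebra.antipodeAlgHom k H))
  inv_mul_cancel f := by
    have H' : (Algebra.TensorProduct.lmul' k).comp (Algebra.TensorProduct.map f.ofConv f.ofConv) =
        f.ofConv.comp (Algebra.TensorProduct.lmul' k) := by ext <;> simp
    trans toConv (((Algebra.TensorProduct.lmul' k).comp (Algebra.TensorProduct.map f.ofConv f.ofConv)).comp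
      ((Algebra.TensorProduct.map (HopfAlgebra.antipodeAlgHom k H) (.id _ _)).comp (comulAlgHom k H)))
    · rw [AlgHom.comp_assoc, ← AlgHom.comp_assoc (Algebra.TensorProduct.map f.ofConv f.ofConv),
        ← Algebra.TensorProduct.map_comp]; rfl
    rw [H', AlgHom.comp_assoc, WithConv.ext_iff, ← AlgHom.toLinearMap_injective.eq_iff]
    change f.ofConv.toLinearMap.comp
        (toConv (HopfAlgebra.antipode k (A := H)) * toConv LinearMap.id).ofConv =
      ofConv (1 : WithConv <| H →ₗ[k] C)
    rw [LinearMap.antipode_mul_id]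
    ext
    simp

theorem inv_apply {H : Type*} [CommRing H] [HopfAlgebra k H] (f : WithConv (H →ₐ[k] C)) (a : H) :
    f⁻¹ a = f (HopfAlgebra.antipode k a) := rfl

variable (k N) in
/-- Points of the general linear group. -/
abbrev Pt (C : Type v) [CommRing C] [Algebra k C] := WithConv (CoordGrp.GLn N k →ₐ[k] C)

/-- Change of coefficients. -/
noncomputable def push (h : C →ₐ[k] D) : Pt k N C →* Pt k N D where
  toFun y := toConv (h.comp y.ofConv)
  map_one' := ofConv_injective (AlgHom.ext fun f => by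
    show h (algebraMap k C _) = _
    rw [AlgHom.commutes]
    rfl)
  map_mul' y z := ofConv_injective (AlgHom.comp_convMul_distrib h y z)

theorem push_apply (h : C →ₐ[k] D) (y : Pt k N C) (f : CoordGrp.GLn N k) : push h y f = h (y f) := rfl

theorem push_push {E : Type*} [CommRing E] [Algebra k E] (h' : D →ₐ[k] E) (h : C →ₐ[k] D) (y : Pt k N C) :
    push h' (push h y) = push (h'.comp h) y := rfl

theorem push_id (y : Pt k N C) : push (AlgHom.id k C) y = y := rfl

/-- A constant point. -/
noncomputable abbrev cst (C : Type v) [CommRing C] [Algebra k C] : Pt k N k →* Pt k N C := push (Algebra.ofId k C)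

theorem push_cst (h : C →ₐ[k] D) (b : Pt k N k) : push h (cst C b) = cst D b := by
  show push h (push (Algebra.ofId k C) b) = push (Algebra.ofId k D) b
  rw [push_push, show h.comp (Algebra.ofId k C) = Algebra.ofId k D from Subsingleton.elim _ _]

/-- Points of a closed subgroup. -/
noncomputable def ofSub (π : CoordGrp.GLn N k →ₐc[k] A) : WithConv (A →ₐ[k] C) →* Pt k N C where
  toFun g := toConv (g.ofConv.comp (π : CoordGrp.GLn N k →ₐ[k] A))
  map_one' := ofConv_injective (AlgHom.ext fun f => by
    show algebraMap k C (Coalgebra.counit (R := k) (π f)) = algebraMap k C (Coalgebra.counit (R := k) f)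
    rw [CoalgHomClass.counit_comp_apply])
  map_mul' g g' := ofConv_injective (AlgHom.convMul_comp_bialgHom_distrib g g' π)

theorem ofSub_apply (π : CoordGrp.GLn N k →ₐc[k] A) (g : WithConv (A →ₐ[k] C)) (f : CoordGrp.GLn N k) :
    ofSub π g f = g (π f) := rfl

theorem push_ofSub (π : CoordGrp.GLn N k →ₐc[k] A) (h : C →ₐ[k] D) (g : WithConv (A →ₐ[k] C)) :
    push h (ofSub π g) = ofSub π (toConv (h.comp g.ofConv)) := rfl

/-- The matrix of a point. -/
noncomputable def mat (y : Pt k N C) : Matrix (Fin N) (Fin N) C := GrpSchLib.GLnDiag.mat y.ofConv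

theorem mat_apply (y : Pt k N C) (i j : Fin N) : mat y i j = y (CoordGrp.GLn.X i j) := rfl

theorem mat_mul (y z : Pt k N C) : mat (y * z) = mat y * mat z := GrpSchLib.GLnDiag.mat_mul y z

theorem mat_one : mat (1 : Pt k N C) = 1 := GrpSchLib.GLnDiag.mat_one

theorem mat_push (h : C →ₐ[k] D) (y : Pt k N C) : mat (push h y) = (mat y).map h := rfl

theorem mat_cst (b : Pt k N k) : mat (cst C b) = (mat b).map (algebraMap k C) := rfl

theorem pt_ext {y z : Pt k N C} (h : mat y = mat z) : y = z :=
  ofConv_injective (GrpSchLib.GLnDiag.ext_mat h)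

theorem mat_inv_mul (y : Pt k N C) : mat y⁻¹ * mat y = 1 := by
  rw [← mat_mul, inv_mul_cancel, mat_one]

theorem mat_mul_inv (y : Pt k N C) : mat y * mat y⁻¹ = 1 := by
  rw [← mat_mul, mul_inv_cancel, mat_one]

theorem isUnit_mat (y : Pt k N C) : IsUnit (mat y) := ⟨⟨mat y, mat y⁻¹, mat_mul_inv y, mat_inv_mul y⟩, rfl⟩

/-- The point with a given invertible matrix. -/
noncomputable def mkPt (M : Matrix (Fin N) (Fin N) C) (hM : IsUnit M) : Pt k N C :=
  toConv (GrpSchLib.GLnDiag.exists_pt M hM).choose

theorem mat_mkPt (M : Matrix (Fin N) (Fin N) C) (hM : IsUnit M) : mat (mkPt (k := k) M hM) = M :=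
  (GrpSchLib.GLnDiag.exists_pt M hM).choose_spec

theorem isUnit_diagonal (e : Fin N → Cˣ) : IsUnit (Matrix.diagonal fun p => (e p : C)) := by
  rw [Matrix.isUnit_iff_isUnit_det, Matrix.det_diagonal]
  exact ⟨∏ p, e p, by rw [Units.coe_prod]⟩

/-- A diagonal point. -/
noncomputable def diagPt (e : Fin N → Cˣ) : Pt k N C := mkPt _ (isUnit_diagonal e)

theorem mat_diagPt (e : Fin N → Cˣ) : mat (diagPt (k := k) e) = Matrix.diagonal fun p => (e p : C) :=
  mat_mkPt _ _

theorem diagPt_mul (e e' : Fin N → Cˣ) : diagPt (k := k) (e * e') = diagPt e * diagPt e' := by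
  refine pt_ext ?_
  rw [mat_mul, mat_diagPt, mat_diagPt, mat_diagPt, Matrix.diagonal_mul_diagonal]
  rfl

theorem diagPt_one : diagPt (k := k) (1 : Fin N → Cˣ) = 1 := by
  refine pt_ext ?_
  rw [mat_one, mat_diagPt]
  simp

theorem diagPt_inv (e : Fin N → Cˣ) : (diagPt (k := k) e)⁻¹ = diagPt e⁻¹ := by
  refine inv_eq_of_mul_eq_one_right ?_
  rw [← diagPt_mul, mul_inv_cancel, diagPt_one]

variable (k) in
/-- The one-parameter diagonal point. -/
noncomputable def dT (s : Fin N → ℤ) : Pt k N k[T;T⁻¹] :=
  toConv ((CoordGrp.GLn.diag N k s : CoordGrp.GLn N k →ₐc[k] k[T;T⁻¹]) : CoordGrp.GLn N k →ₐ[k] k[T;T⁻¹])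

theorem mat_dT (s : Fin N → ℤ) : mat (dT k s) = Matrix.diagonal fun p => (LaurentPolynomial.T (s p) : k[T;T⁻¹]) := by
  refine Matrix.ext fun i j => ?_
  rw [mat_apply, Matrix.diagonal_apply]
  exact CoordGrp.GLn.diag_X (k := k) s i j

theorem dT_mul (s s' : Fin N → ℤ) : dT k (s + s') = dT k s * dT k s' := by
  refine pt_ext ?_
  rw [mat_mul, mat_dT, mat_dT, mat_dT, Matrix.diagonal_mul_diagonal]
  ext1 i j
  simp only [Matrix.diagonal_apply, Pi.add_apply, LaurentPolynomial.T_add]

theorem dT_zero : dT k (0 : Fin N → ℤ) = 1 := by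
  refine pt_ext ?_
  rw [mat_one, mat_dT]
  simp

theorem dT_neg (s : Fin N → ℤ) : dT k (-s) = (dT k s)⁻¹ := by
  refine (inv_eq_of_mul_eq_one_right ?_).symm
  rw [← dT_mul, add_neg_cancel, dT_zero]

end Groth.Agent.HMGit
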