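import Groth.Agent.HMGit.Invariants
import Groth.Agent.ComodLib.Invariants
import Groth.Agent.ComodLib.Integral

/-! The grading of functions on `GL_N` by left translations with the diagonal torus. -/

set_option autoImplicit false
set_option linter.style.haveILetI false
set_option linter.unusedSectionVars false

open WithConv
open AddMonoidAlgebra (single)

universe u v w

namespace Groth.Agent.HMGit

variable {k : Type u} [Field k] {A : Type u} [CommRing A] [HopfAlgebra k A] {N : ℕ}
variable {C : Type v} [CommRing C] [Algebra k C] {D : Type w} [CommRing D] [Algebra k D]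

theorem push_diagPt (h : C →ₐ[k] D) (e : Fin N → Cˣ) :
    push h (diagPt (k := k) e) = diagPt fun p => Units.map (h : C →* D) (e p) := by
  refine pt_ext ?_
  rw [mat_push, mat_diagPt, mat_diagPt, Matrix.diagonal_map (map_zero h)]
  rfl

/-- The weight character. -/
noncomputable def wt (e : Fin N → Cˣ) : Multiplicative (Fin N → ℤ) →* C where
  toFun χ := ((∏ p, e p ^ (χ.toAdd p) : Cˣ) : C)
  map_one' := by simp
  map_mul' χ χ' := by
    rw [← Units.val_mul, ← Finset.prod_mul_distrib]
    simp only [toAdd_mul, Pi.add_apply, zpow_add]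

theorem wt_apply (e : Fin N → Cˣ) (χ : Fin N → ℤ) :
    wt e (Multiplicative.ofAdd χ) = ((∏ p, e p ^ χ p : Cˣ) : C) := rfl

theorem wt_one (χ : Multiplicative (Fin N → ℤ)) : wt (1 : Fin N → Cˣ) χ = 1 := by simp [wt]

theorem wt_mul (e e' : Fin N → Cˣ) (χ : Multiplicative (Fin N → ℤ)) :
    wt (e * e') χ = wt e χ * wt e' χ := by
  simp only [wt, MonoidHom.coe_mk, OneHom.coe_mk, Pi.mul_apply, mul_zpow, Finset.prod_mul_distrib,
    Units.val_mul]

theorem map_wt (h : C →ₐ[k] D) (e : Fin N → Cˣ) (χ : Multiplicative (Fin N → ℤ)) :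
    h (wt e χ) = wt (fun p => Units.map (h : C →* D) (e p)) χ := by
  simp only [wt, MonoidHom.coe_mk, OneHom.coe_mk]
  rw [← map_prod_zpow (Units.map (h : C →* D))]
  rfl
where
  map_prod_zpow (F : Cˣ →* Dˣ) : F (∏ p, e p ^ χ.toAdd p) = ∏ p, F (e p) ^ χ.toAdd p := by
    rw [map_prod]
    simp only [map_zpow]

variable (C N) in
/-- The universal diagonal units. -/
noncomputable def εu (p : Fin N) : (AddMonoidAlgebra C (Fin N → ℤ))ˣ :=
  (AddMonoidAlgebra.of C (Fin N → ℤ)).toHomUnits (Multiplicative.ofAdd (Pi.single p 1))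

theorem wt_εu (χ : Fin N → ℤ) : wt (εu N C) (Multiplicative.ofAdd χ) = single χ 1 := by
  rw [wt_apply]
  simp only [εu, ← map_zpow, ← map_prod, ← ofAdd_zsmul, ← ofAdd_sum]
  rw [MonoidHom.coe_toHomUnits]
  show single _ 1 = _
  congr 1
  refine funext fun q => ?_
  simp [Finset.sum_apply, Pi.single_apply]

/-- The grading map. -/
noncomputable def grade : CoordGrp.GLn N k →ₐ[k] AddMonoidAlgebra (CoordGrp.GLn N k) (Fin N → ℤ) :=
  (diagPt (εu N (CoordGrp.GLn N k)) * push AddMonoidAlgebra.singleZeroAlgHom idPt).ofConv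

/-- Change of coefficient of a graded element. -/
noncomputable abbrev mapC (h : C →ₐ[k] D) :
    AddMonoidAlgebra C (Fin N → ℤ) →ₐ[k] AddMonoidAlgebra D (Fin N → ℤ) :=
  AddMonoidAlgebra.mapAlgHom _ h

theorem push_εu (h : C →ₐ[k] D) :
    push (mapC h) (diagPt (εu N C)) = diagPt (k := k) (εu N D) := by
  rw [push_diagPt]
  congr 1
  refine funext fun p => Units.ext ?_
  show mapC h (single (Pi.single p 1) 1) = single (Pi.single p 1) 1
  simp

theorem univ_point_apply (y : Pt k N C) (f : CoordGrp.GLn N k) :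
    (diagPt (εu N C) * push AddMonoidAlgebra.singleZeroAlgHom y : Pt k N (AddMonoidAlgebra C (Fin N → ℤ))) f = mapC y.ofConv (grade f) := by
  have h : push (mapC y.ofConv) (diagPt (εu N (CoordGrp.GLn N k)) * push AddMonoidAlgebra.singleZeroAlgHom idPt) =
      diagPt (εu N C) * push AddMonoidAlgebra.singleZeroAlgHom y := by
    rw [map_mul, push_εu, push_push]
    congr 1
    refine ofConv_injective (AlgHom.ext fun a => ?_)
    show mapC y.ofConv (single 0 a) = single 0 (y a)
    simp
  rw [← h]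
  rfl

/-- Evaluation of a graded element at units. -/
noncomputable def evalAt (e : Fin N → Cˣ) : AddMonoidAlgebra C (Fin N → ℤ) →ₐ[k] C :=
  (AddMonoidAlgebra.lift C C (Fin N → ℤ) (wt e)).restrictScalars k

theorem evalAt_single (e : Fin N → Cˣ) (χ : Fin N → ℤ) (c : C) :
    evalAt (k := k) e (single χ c) = c * wt e (Multiplicative.ofAdd χ) := by
  simp [evalAt]

theorem evalAt_εu (e : Fin N → Cˣ) (p : Fin N) :
    Units.map ((evalAt (k := k) e : AddMonoidAlgebra C (Fin N → ℤ) →ₐ[k] C) :
      AddMonoidAlgebra C (Fin N → ℤ) →* C) (εu N C p) = e p := by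
  refine Units.ext ?_
  show evalAt (k := k) e (single (Pi.single p 1) 1) = e p
  rw [evalAt_single, one_mul, wt_apply]
  congr 1
  rw [Finset.prod_eq_single p (fun q _ hq => by simp [hq]) (by simp)]
  simp

/-- The weight expansion of a translated value. -/
theorem diagPt_mul_apply (e : Fin N → Cˣ) (y : Pt k N C) (f : CoordGrp.GLn N k) :
    (diagPt (k := k) e * y) f = evalAt (k := k) e (mapC y.ofConv (grade f)) := by
  rw [← univ_point_apply]
  have h : push (evalAt (k := k) e) (diagPt (εu N C) * push AddMonoidAlgebra.singleZeroAlgHom y) =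
      diagPt e * y := by
    rw [map_mul, push_diagPt, push_push]
    simp only [evalAt_εu]
    congr 1
    refine ofConv_injective (AlgHom.ext fun a => ?_)
    show evalAt (k := k) e (single 0 (y a)) = y a
    rw [evalAt_single, show (Multiplicative.ofAdd (0 : Fin N → ℤ)) = 1 from rfl, map_one, mul_one]
  rw [← h]
  rfl

theorem evalAt_twist (e : Fin N → Cˣ) (x : AddMonoidAlgebra C (Fin N → ℤ)) (χ : Fin N → ℤ) :
    (evalAt (k := k) (εu N C * fun p => Units.map
        ((AddMonoidAlgebra.singleZeroAlgHom (R := k) : C →ₐ[k] AddMonoidAlgebra C (Fin N → ℤ)) :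
          C →* AddMonoidAlgebra C (Fin N → ℤ)) (e p))
      (mapC (AddMonoidAlgebra.singleZeroAlgHom (R := k)) x)).coeff χ = x.coeff χ * wt e (Multiplicative.ofAdd χ) := by
  classical
  induction x using AddMonoidAlgebra.induction_linear with
  | zero => simp
  | add p q hp hq => simp only [map_add, AddMonoidAlgebra.coeff_add, Finsupp.add_apply, hp, hq, add_mul]
  | single χ' c =>
    rw [AddMonoidAlgebra.mapAlgHom_single, evalAt_single, wt_mul, wt_εu, ← map_wt]
    simp [AddMonoidAlgebra.coeff_single, Finsupp.single_apply]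
    split_ifs with h <;> simp_all

/-- The components of a function. -/
noncomputable def comp (f : CoordGrp.GLn N k) (χ : Fin N → ℤ) : CoordGrp.GLn N k := (grade f).coeff χ

/-- A homogeneous function. -/
def IsWt (χ : Fin N → ℤ) (f : CoordGrp.GLn N k) : Prop := grade f = single χ f

theorem IsWt.apply {χ : Fin N → ℤ} {f : CoordGrp.GLn N k} (hf : IsWt χ f) (e : Fin N → Cˣ) (y : Pt k N C) :
    (diagPt (k := k) e * y) f = y f * wt e (Multiplicative.ofAdd χ) := by
  rw [diagPt_mul_apply, hf, AddMonoidAlgebra.mapAlgHom_single, evalAt_single]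

theorem apply_comp (f : CoordGrp.GLn N k) (χ : Fin N → ℤ) (e : Fin N → Cˣ) (y : Pt k N C) :
    (diagPt (k := k) e * y) (comp f χ) = y (comp f χ) * wt e (Multiplicative.ofAdd χ) := by
  have h1 : (mapC (diagPt (k := k) e * y).ofConv (grade f)).coeff χ = (diagPt (k := k) e * y) (comp f χ) :=
    AddMonoidAlgebra.coeff_mapAlgHom ..
  rw [← h1, ← univ_point_apply, map_mul, push_diagPt, ← mul_assoc, ← diagPt_mul, diagPt_mul_apply]
  have h2 : mapC (push (AddMonoidAlgebra.singleZeroAlgHom (R := k) (M := Fin N → ℤ)) y).ofConv (grade f) =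
      mapC (AddMonoidAlgebra.singleZeroAlgHom (R := k)) (mapC y.ofConv (grade f)) := by
    refine AddMonoidAlgebra.ext (Finsupp.ext fun m => ?_)
    simp only [AddMonoidAlgebra.coeff_mapAlgHom]
    rfl
  rw [h2, evalAt_twist]
  exact congrArg (· * _) (AddMonoidAlgebra.coeff_mapAlgHom ..)

theorem isWt_comp (f : CoordGrp.GLn N k) (χ : Fin N → ℤ) : IsWt χ (comp f χ) := by
  have h := apply_comp f χ (εu N (CoordGrp.GLn N k))
    (push (AddMonoidAlgebra.singleZeroAlgHom (R := k) (M := Fin N → ℤ)) idPt)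
  rw [wt_εu, show (push (AddMonoidAlgebra.singleZeroAlgHom (R := k) (M := Fin N → ℤ)) idPt :
      Pt k N (AddMonoidAlgebra (CoordGrp.GLn N k) (Fin N → ℤ))) (comp f χ) = single 0 (comp f χ) from rfl,
    AddMonoidAlgebra.single_mul_single, zero_add, mul_one] at h
  exact h

theorem sum_comp (f : CoordGrp.GLn N k) : ∑ χ ∈ (grade f).coeff.support, comp f χ = f := by
  have h := diagPt_mul_apply (k := k) (1 : Fin N → (CoordGrp.GLn N k)ˣ) idPt f
  rw [diagPt_one, one_mul] at h
  refine (h.trans ?_).symm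
  conv_lhs => rw [← AddMonoidAlgebra.sum_coeff_single (grade f), Finsupp.sum, map_sum, map_sum]
  refine Finset.sum_congr rfl fun χ _ => ?_
  rw [AddMonoidAlgebra.mapAlgHom_single, evalAt_single, wt_one, mul_one]
  rfl

variable [IsAlgClosed k] [CharZero k] [Algebra.FiniteType k A] (π : CoordGrp.GLn N k →ₐc[k] A)

theorem comp_mem_inv {f : CoordGrp.GLn N k} (hf : f ∈ inv π) (χ : Fin N → ℤ) : comp f χ ∈ inv π :=
  mem_inv_of_points π fun y g => by
    let i : k →ₐ[k] AddMonoidAlgebra k (Fin N → ℤ) := AddMonoidAlgebra.singleZeroAlgHom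
    have h : (diagPt (εu N k) * push i (y * ofSub π g) : Pt k N (AddMonoidAlgebra k (Fin N → ℤ))) f =
        (diagPt (εu N k) * push i y : Pt k N (AddMonoidAlgebra k (Fin N → ℤ))) f := by
      rw [map_mul, push_ofSub, ← mul_assoc, inv_apply_mul π hf]
    rw [univ_point_apply, univ_point_apply] at h
    have h2 := congrArg (fun x => AddMonoidAlgebra.coeff x χ) h
    simp only [AddMonoidAlgebra.coeff_mapAlgHom] at h2
    exact h2

/-- The invariant functions are generated by finitely many homogeneous ones. -/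
theorem exists_homogeneous_generators (hA : HopfRep.IsLinearlyReductive k A) :
    ∃ (n : ℕ) (g : Fin n → CoordGrp.GLn N k) (χ : Fin n → Fin N → ℤ),
      (∀ i, g i ∈ inv π) ∧ (∀ i, IsWt (χ i) (g i)) ∧
        ∀ f ∈ inv π, f ∈ Algebra.adjoin k (Set.range g) := by
  classical
  letI := cB π
  haveI := isCoactAlg_cB π
  haveI : Algebra.FiniteType k (CoordGrp.GLb N k) :=
    inferInstanceAs (Algebra.FiniteType k (MvPolynomial (CoordGrp.GLPoly.Idx N) k))
  haveI : Algebra.FiniteType k (CoordGrp.GLn N k) :=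
    Algebra.FiniteType.of_surjective (CoordGrp.GLn.mk N k) Ideal.Quotient.mk_surjective
  obtain ⟨α, hα, h1⟩ := ComodLib.exists_integral_of_isLinearlyReductive hA
  obtain ⟨s, hs⟩ := ComodLib.exists_finset_invariants_adjoin (C := CoordGrp.GLn N k) hα h1
  let P : Finset ((CoordGrp.GLn N k) × (Fin N → ℤ)) :=
    s.biUnion fun f => (grade f).coeff.support.image fun χ => (comp f χ, χ)
  have hP : ∀ x ∈ P, x.1 ∈ inv π ∧ IsWt x.2 x.1 := fun x hx => by
    obtain ⟨f, hf, χ, -, rfl⟩ : ∃ f ∈ s, ∃ χ ∈ (grade f).coeff.support, (comp f χ, χ) = x := by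
      simpa [P] using hx
    exact ⟨comp_mem_inv π (hs.ge (Algebra.subset_adjoin (Finset.mem_coe.mpr hf))) χ, isWt_comp f χ⟩
  refine ⟨P.card, fun i => (P.equivFin.symm i).1.1, fun i => (P.equivFin.symm i).1.2,
    fun i => (hP _ (P.equivFin.symm i).2).1, fun i => (hP _ (P.equivFin.symm i).2).2, fun f hf => ?_⟩
  have hf' : f ∈ Algebra.adjoin k (↑s : Set (CoordGrp.GLn N k)) := hs.le hf
  refine Algebra.adjoin_le (fun a ha => ?_) hf'
  rw [SetLike.mem_coe, ← sum_comp a]
  refine Subalgebra.sum_mem _ fun χ hχ => Algebra.subset_adjoin ?_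
  exact ⟨P.equivFin ⟨(comp a χ, χ), Finset.mem_biUnion.mpr ⟨a, ha, Finset.mem_image.mpr ⟨χ, hχ, rfl⟩⟩⟩,
    by simp⟩

end Groth.Agent.HMGit
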