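import Mathlib.Algebra.Order.Group.Defs
import Mathlib.Algebra.BigOperators.Fin
import Mathlib.Algebra.Order.BigOperators.Group.Finset
import Mathlib.Tactic.LinearCombination
import Mathlib.Tactic.Ring
import Mathlib.Algebra.BigOperators.Pi
import Mathlib.Algebra.BigOperators.Ring.Finset
import Mathlib.Algebra.Order.Ring.Basic
import Mathlib.Tactic.Linarith

/-! Integral functionals compatible with an ordering: rational approximation of a weight vector. -/

set_option autoImplicit false

open Finset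

universe u

namespace Groth.Agent.HMGit

variable {N : ℕ} {Γ : Type u} [AddCommGroup Γ] [LinearOrder Γ] [IsOrderedAddMonoid Γ]

/-- Pairing of integral vectors. -/
def pair (r χ : Fin N → ℤ) : ℤ := ∑ p, r p * χ p

theorem pair_combo (a b : ℤ) (r s χ : Fin N → ℤ) : pair (a • r + b • s) χ = a * pair r χ + b * pair s χ := by
  simp only [pair, mul_sum, ← sum_add_distrib]
  exact sum_congr rfl fun p _ => by simp only [Pi.add_apply, Pi.smul_apply, smul_eq_mul]; ring

theorem pair_combo_right (a b : ℤ) (r χ χ' : Fin N → ℤ) :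
    pair r (a • χ + b • χ') = a * pair r χ + b * pair r χ' := by
  simp only [pair, mul_sum, ← sum_add_distrib]
  exact sum_congr rfl fun p _ => by simp only [Pi.add_apply, Pi.smul_apply, smul_eq_mul]; ring

theorem smul_zsmul_nonneg {a : ℤ} (ha : 0 ≤ a) {x : Γ} (hx : 0 ≤ x) : 0 ≤ a • x := by
  lift a to ℕ using ha
  rw [natCast_zsmul]
  exact nsmul_nonneg hx a

theorem smul_zsmul_pos {a : ℤ} (ha : 0 < a) {x : Γ} (hx : 0 < x) : 0 < a • x := by
  lift a to ℕ using ha.le
  rw [natCast_zsmul]
  exact nsmul_pos hx (by omega)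

theorem exists_functional_single (φ : (Fin N → ℤ) →+ Γ) (n : ℕ) :
    ∀ (W : Fin n → Fin N → ℤ) (a : Fin N → ℤ), (∀ i, 0 ≤ φ (W i)) → 0 < φ a →
      ∃ r : Fin N → ℤ, 0 < pair r a ∧ ∀ i, 0 ≤ pair r (W i) := by
  induction n with
  | zero =>
    intro W a _ ha
    refine ⟨a, ?_, fun i => i.elim0⟩
    obtain ⟨p, hp⟩ : ∃ p, a p ≠ 0 := by
      by_contra! hc
      rw [show a = 0 from funext hc, map_zero] at ha
      exact lt_irrefl _ ha
    exact sum_pos' (fun q _ => mul_self_nonneg _) ⟨p, mem_univ _, mul_self_pos.mpr hp⟩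
  | succ n ih =>
    intro W a hW ha
    obtain ⟨f, hfa, hf⟩ := ih (W ∘ Fin.succ) a (fun i => hW _) ha
    rcases le_or_gt 0 (pair f (W 0)) with hz | hz
    · exact ⟨f, hfa, fun i => Fin.cases hz hf i⟩
    set z := W 0
    obtain ⟨g, hga, hg⟩ := ih (fun i => pair f (W i.succ) • z + (-pair f z) • W i.succ)
      (pair f a • z + (-pair f z) • a)
      (fun i => by
        rw [map_add, map_zsmul, map_zsmul]
        exact add_nonneg (smul_zsmul_nonneg (hf i) (hW 0)) (smul_zsmul_nonneg (by omega) (hW _)))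
      (by
        rw [map_add, map_zsmul, map_zsmul]
        exact add_pos_of_nonneg_of_pos (smul_zsmul_nonneg hfa.le (hW 0)) (smul_zsmul_pos (by omega) ha))
    rw [pair_combo_right] at hga
    refine ⟨(-pair f z) • g + pair g z • f, ?_, fun i => ?_⟩
    · rw [pair_combo]
      linarith
    · rw [pair_combo]
      refine Fin.cases (le_of_eq ?_) (fun j => ?_) i
      · show (0 : ℤ) = -pair f z * pair g z + pair g z * pair f z
        ring
      · have := hg j
        rw [pair_combo_right] at this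
        linarith

/-- Finitely many weak and strict inequalities satisfied in an ordered group are satisfied by integers. -/
theorem exists_functional (φ : (Fin N → ℤ) →+ Γ) {κ κ' : Type*} [Fintype κ] [Fintype κ']
    (W : κ → Fin N → ℤ) (S : κ' → Fin N → ℤ) (hW : ∀ i, 0 ≤ φ (W i)) (hS : ∀ j, 0 < φ (S j)) :
    ∃ r : Fin N → ℤ, (∀ i, 0 ≤ pair r (W i)) ∧ ∀ j, 0 < pair r (S j) := by
  classical
  let e := Fintype.equivFin (κ ⊕ κ')
  have hall : ∀ x : κ ⊕ κ', 0 ≤ φ (Sum.elim W S x) := by
    rintro (i | j)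
    exacts [hW i, (hS j).le]
  have h1 : ∀ j, ∃ r : Fin N → ℤ, 0 < pair r (S j) ∧ ∀ x, 0 ≤ pair r (Sum.elim W S x) := fun j => by
    obtain ⟨r, hr, hr'⟩ := exists_functional_single φ _ (fun m => Sum.elim W S (e.symm m)) (S j)
      (fun m => hall _) (hS j)
    exact ⟨r, hr, fun x => by simpa using hr' (e x)⟩
  choose r hr hr' using h1
  refine ⟨∑ j, r j, fun i => ?_, fun j => ?_⟩
  · have : pair (∑ j, r j) (W i) = ∑ j, pair (r j) (W i) := by
      simp only [pair, Finset.sum_apply, Finset.sum_mul]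
      exact sum_comm
    rw [this]
    exact sum_nonneg fun j _ => hr' j (Sum.inl i)
  · have : pair (∑ j', r j') (S j) = ∑ j', pair (r j') (S j) := by
      simp only [pair, Finset.sum_apply, Finset.sum_mul]
      exact sum_comm
    rw [this]
    exact sum_pos' (fun j' _ => hr' j' (Sum.inr j)) ⟨j, mem_univ _, hr j⟩

end Groth.Agent.HMGit
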