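import Groth.Agent.HMGit.AttractorStep
import Groth.Agent.HMGit.Grading
import Groth.Agent.HMGit.Ordered
import Mathlib.LinearAlgebra.Dual.Lemmas
import Mathlib.RingTheory.Adjoin.Basic

/-! Points of the quotient with a limit under a one-parameter subgroup lift to the attractor. -/

set_option autoImplicit false
set_option linter.style.haveILetI false
set_option linter.unusedSectionVars false

open WithConv Polynomial
open scoped LaurentPolynomial
open TrivSqZeroExt (inl inr fst snd)

universe u v

namespace Groth.Agent.HMGit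

variable {k : Type u} [Field k] {A : Type u} [CommRing A] [HopfAlgebra k A] {N : ℕ}

theorem wt_Tu (s χ : Fin N → ℤ) :
    wt (fun p => Tu k (s p)) (Multiplicative.ofAdd χ) = LaurentPolynomial.T (pair s χ) := by
  rw [wt_apply]
  let F : Multiplicative ℤ →* k[T;T⁻¹]ˣ :=
    { toFun := fun n => Tu k n.toAdd
      map_one' := Units.ext LaurentPolynomial.T_zero
      map_mul' := fun a b => Units.ext (LaurentPolynomial.T_add ..) }
  have h : ∀ p, Tu k (s p) ^ χ p = F (Multiplicative.ofAdd (χ p • s p)) := fun p => by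
    rw [ofAdd_zsmul, map_zpow]
    rfl
  simp only [h, ← map_prod, ← ofAdd_sum]
  show LaurentPolynomial.T _ = _
  congr 1
  show ∑ p, χ p • s p = ∑ p, s p * χ p
  exact Finset.sum_congr rfl fun p _ => by rw [smul_eq_mul, mul_comm]

theorem apply_dT {χ : Fin N → ℤ} {f : CoordGrp.GLn N k} (hf : IsWt χ f) (s : Fin N → ℤ) (y : Pt k N k) :
    (dT k s * cst k[T;T⁻¹] y : Pt k N k[T;T⁻¹]) f =
      algebraMap k k[T;T⁻¹] (y f) * LaurentPolynomial.T (pair s χ) := by
  rw [dT_eq_diagPt, hf.apply, wt_Tu]
  rfl

theorem C_mul_T_coeff (a : k) (m n : ℤ) :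
    (algebraMap k k[T;T⁻¹] a * LaurentPolynomial.T m).coeff n = if m = n then a else 0 := by
  rw [← Algebra.smul_def, AddMonoidAlgebra.coeff_smul_apply, LaurentPolynomial.T_apply]
  simp

theorem two_zpow_inj [CharZero k] {a b : ℤ} (h : (2 : k) ^ a = (2 : k) ^ b) : a = b := by
  have h' : ((2 : ℚ) ^ a : ℚ) = (2 : ℚ) ^ b := by
    apply Rat.cast_injective (α := k)
    push_cast
    exact h
  exact zpow_right_injective₀ (by norm_num) (by norm_num) h'

theorem wt_two_zpow [CharZero k] (s χ : Fin N → ℤ) :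
    wt (fun p => Units.mk0 ((2 : k) ^ s p) (zpow_ne_zero _ two_ne_zero)) (Multiplicative.ofAdd χ) =
      (2 : k) ^ pair s χ := by
  rw [wt_apply, Units.coe_prod]
  simp only [Units.val_zpow_eq_zpow_val, Units.val_mk0, ← zpow_mul, pair]
  induction (Finset.univ : Finset (Fin N)) using Finset.induction_on with
  | empty => simp
  | insert p S hp ih => rw [Finset.prod_insert hp, Finset.sum_insert hp, ih, zpow_add₀ two_ne_zero]

theorem pair_neg_left (s χ : Fin N → ℤ) : pair (-s) χ = -pair s χ := by simp [pair]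

variable [IsAlgClosed k] [CharZero k] [Algebra.FiniteType k A] (π : CoordGrp.GLn N k →ₐc[k] A)

theorem grad_mul (b : Pt k N k) (f g : CoordGrp.GLn N k) :
    grad b (f * g) = b f • grad b g + b g • grad b f := by
  have h : ∀ f : CoordGrp.GLn N k, fst ((univTan k N * cst (TG k N) b) f) = b f := fun f => by
    have h1 : push (TrivSqZeroExt.fstHom k k _) (univTan k N * cst (TG k N) b) = b := by
      rw [map_mul, univTan, fst_tanPt, push_cst, one_mul]
      rfl
    exact congrArg (fun y : Pt k N k => y f) h1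
  simp [grad, TrivSqZeroExt.snd_mul, h]

/-- A lift to the attractor. -/
theorem exists_attractor (hA : HopfRep.IsLinearlyReductive k A) (hπ : Function.Surjective π)
    {n : ℕ} (g : Fin n → CoordGrp.GLn N k) (χ : Fin n → Fin N → ℤ) (hg : ∀ i, g i ∈ inv π)
    (hwt : ∀ i, IsWt (χ i) (g i)) (hgen : ∀ f ∈ inv π, f ∈ Algebra.adjoin k (Set.range g))
    (s : Fin N → ℤ) (c : Pt k N k) (hc : ∀ i, pair s (χ i) < 0 → c (g i) = 0) :
    ∃ γ : Pt k N k,
      (∃ Z : Pt k N k[X], push toL Z = dT k s * cst k[T;T⁻¹] (c * γ⁻¹) * (dT k s)⁻¹) ∧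
      ∀ f ∈ inv π, (dT k s * cst k[T;T⁻¹] γ : Pt k N k[T;T⁻¹]) f = algebraMap k _ (γ f) := by
  classical
  let B := CoordGrp.GLn N k
  let e : Fin n → ℤ := fun i => pair s (χ i)
  let gi : Fin n → inv π := fun i => ⟨g i, hg i⟩
  have hgenT : ∀ P : inv π → Prop, (∀ i, P (gi i)) → (∀ r, P (algebraMap k _ r)) →
      (∀ x y, P x → P y → P (x + y)) → (∀ x y, P x → P y → P (x * y)) → ∀ x, P x := by
    intro P h1 h2 h3 h4 x
    have hS : ∀ y ∈ Algebra.adjoin k (Set.range g), ∃ hy : y ∈ inv π, P ⟨y, hy⟩ := by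
      intro y hy
      induction hy using Algebra.adjoin_induction with
      | mem y hy => obtain ⟨i, rfl⟩ := hy; exact ⟨hg i, h1 i⟩
      | algebraMap r => exact ⟨(inv π).algebraMap_mem r, h2 r⟩
      | add y z _ _ hy hz => exact ⟨_, h3 _ _ hy.2 hz.2⟩
      | mul y z _ _ hy hz => exact ⟨_, h4 _ _ hy.2 hz.2⟩
    exact (hS _ (hgen _ x.2)).2
  have hgext : ∀ (C : Type u) [CommRing C] [Algebra k C] (y z : Pt k N C),
      (∀ i, y (g i) = z (g i)) → ∀ f ∈ inv π, y f = z f := fun C _ _ y z h f hf =>
    hgenT (fun x => y (x : B) = z (x : B)) h (fun r => (y.ofConv.commutes r).trans (z.ofConv.commutes r).symm)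
      (fun _ _ hx hy => by simp [hx, hy]) (fun _ _ hx hy => by simp [hx, hy]) ⟨f, hf⟩
  -- the polynomial values
  let φ : Pt k N k → Pt k N k[T;T⁻¹] := fun y => dT k s * cst _ y
  have hφ : ∀ y i, φ y (g i) = algebraMap k k[T;T⁻¹] (y (g i)) * LaurentPolynomial.T (e i) := fun y i =>
    apply_dT (hwt i) s y
  have hTL : ∀ m : ℕ, toL (X ^ m : k[X]) = LaurentPolynomial.T (m : ℤ) := fun m => by
    simp [toL, Polynomial.toLaurentAlg_apply, Polynomial.toLaurent_X_pow]
  have hPmem : ∀ f : inv π, ((φ c).ofConv.comp (inv π).val) f ∈ (toL (k := k)).range :=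
    hgenT _ (fun i => by
        show φ c (g i) ∈ _
        rw [hφ]
        rcases lt_or_ge (e i) 0 with h | h
        · rw [hc i h, map_zero, zero_mul]
          exact Subalgebra.zero_mem _
        · refine Subalgebra.mul_mem _ (Subalgebra.algebraMap_mem _ _) ⟨X ^ (e i).toNat, ?_⟩
          rw [AlgHom.toRingHom_eq_coe, RingHom.coe_coe, hTL, Int.toNat_of_nonneg h])
      (fun r => by rw [AlgHom.commutes]; exact Subalgebra.algebraMap_mem _ _)
      (fun x y hx hy => by rw [map_add]; exact Subalgebra.add_mem _ hx hy)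
      (fun x y hx hy => by rw [map_mul]; exact Subalgebra.mul_mem _ hx hy)
  let P : inv π →ₐ[k] k[X] :=
    (AlgEquiv.ofInjective toL Polynomial.toLaurent_injective).symm.toAlgHom.comp
      (((φ c).ofConv.comp (inv π).val).codRestrict _ hPmem)
  have hP : ∀ f : inv π, toL (P f) = φ c (f : B) := fun f =>
    congrArg Subtype.val ((AlgEquiv.ofInjective (toL (k := k)) Polynomial.toLaurent_injective).apply_symm_apply
      (((φ c).ofConv.comp (inv π).val).codRestrict _ hPmem f))
  obtain ⟨b, hb⟩ := exists_lift π hA (ev0.comp P)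
  have hbg : ∀ i, e i = 0 ∨ b (g i) = 0 := fun i => by
    by_cases he : e i = 0
    · exact Or.inl he
    refine Or.inr ?_
    rw [show b (g i) = ev0 (P (gi i)) from hb (gi i), ev0_apply, ← toL_coeff, hP]
    show (φ c (g i)).coeff _ = 0
    rw [hφ, C_mul_T_coeff, if_neg (by simpa using he)]
  -- fixed at `b`
  have hfixT : ∀ f ∈ inv π, ((dT k s)⁻¹ * cst k[T;T⁻¹] b : Pt k N k[T;T⁻¹]) f = algebraMap k _ (b f) :=
    hgext _ _ (cst _ b) fun i => by
      rw [← dT_neg, apply_dT (hwt i), pair_neg_left]
      rcases hbg i with h | h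
      · rw [show pair s (χ i) = 0 from h, neg_zero, LaurentPolynomial.T_zero, mul_one]
        rfl
      · rw [h, map_zero, zero_mul, push_apply, h, map_zero]
  have hfix : ∀ f ∈ inv π, φ b f = algebraMap k _ (b f) :=
    hgext _ _ (cst _ b) fun i => by
      rw [hφ]
      rcases hbg i with h | h
      · rw [h, LaurentPolynomial.T_zero, mul_one]
        rfl
      · rw [h, map_zero, zero_mul, push_apply, h, map_zero]
  obtain ⟨g', hg'⟩ := exists_eq_mul_ofSub π hA hπ b ((dT k s)⁻¹ * cst k[T;T⁻¹] b) hfixT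
  -- gradients at `b`
  have hgrad : ∀ i p q, s p - s q ≠ e i → grad b (g i) (p, q) = 0 := fun i p q hpq => by
    let d : Fin N → kˣ := fun p => Units.mk0 ((2 : k) ^ s p) (zpow_ne_zero _ two_ne_zero)
    let D : Pt k N k := diagPt d
    have hDb : ∀ f ∈ inv π, (D * b) f = algebraMap k k (b f) := hgext _ _ b fun i => by
      rw [(hwt i).apply, wt_two_zpow]
      rcases hbg i with h | h
      · rw [show pair s (χ i) = 0 from h, zpow_zero, mul_one]
      · rw [h, zero_mul]
    obtain ⟨h, hh⟩ := exists_eq_mul_ofSub π hA hπ b (D * b) hDb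
    let R : (Fin N × Fin N → k) →ₗ[k] (Fin N × Fin N → k) :=
      { toFun := fun v pq => (2 : k) ^ (s pq.1 - s pq.2) * v pq
        map_add' := fun v w => funext fun pq => mul_add _ _ _
        map_smul' := fun a v => funext fun pq => by simp [mul_left_comm] }
    have hconj : cst (TG k N) D * univTan k N = push (TrivSqZeroExt.map R) (univTan k N) * cst (TG k N) D := by
      refine pt_ext ?_
      rw [mat_mul, mat_mul, univTan, push_tanPt, mat_tanPt, mat_tanPt, mat_cst, show mat D = _ from mat_diagPt d,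
        Matrix.diagonal_map (map_zero _), mul_add, add_mul, mul_one, one_mul]
      congr 1
      refine Matrix.ext fun p q => ?_
      simp only [Matrix.diagonal_mul, Matrix.mul_diagonal, Matrix.of_apply, d, Units.val_mk0,
        TrivSqZeroExt.algebraMap_eq_inl, TrivSqZeroExt.inl_mul_inr, TrivSqZeroExt.inr_mul_inl,
        op_smul_eq_smul]
      congr 1
      refine funext fun pq => ?_
      by_cases hc : pq = (p, q)
      · subst hc
        simp [R, ← zpow_add₀ (two_ne_zero' k)]
      · simp [R, hc]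
    have h1 : (cst (TG k N) D * (univTan k N * cst (TG k N) b) : Pt k N (TG k N)) (g i) =
        (univTan k N * cst (TG k N) b) (g i) * algebraMap k (TG k N) ((2 : k) ^ e i) := by
      rw [show cst (TG k N) D = _ from push_diagPt (Algebra.ofId k (TG k N)) d, (hwt i).apply, ← map_wt, wt_two_zpow]
      rfl
    have h2 : (cst (TG k N) D * (univTan k N * cst (TG k N) b) : Pt k N (TG k N)) (g i) =
        TrivSqZeroExt.map R ((univTan k N * cst (TG k N) b) (g i)) := by
      rw [← mul_assoc (G := Pt k N (TG k N)), hconj, mul_assoc (G := Pt k N (TG k N)), ← map_mul (cst (TG k N)), hh,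
        show cst k b = b from push_id b,
        map_mul (cst (TG k N)), show cst (TG k N) (ofSub π h) = _ from push_ofSub π _ h,
        ← mul_assoc (G := Pt k N (TG k N)), inv_apply_mul π (hg i)]
      refine (congrArg (fun y : Pt k N (TG k N) => y (g i)) ?_).trans
        (push_apply (TrivSqZeroExt.map R) (univTan k N * cst (TG k N) b) (g i))
      rw [map_mul, push_cst]
    have h3 := congrArg (fun x : TG k N => snd x (p, q)) (h2.symm.trans h1)
    simp only [TrivSqZeroExt.snd_map, TrivSqZeroExt.snd_mul, TrivSqZeroExt.algebraMap_eq_inl,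
      TrivSqZeroExt.snd_inl, TrivSqZeroExt.fst_inl, smul_zero, zero_add, op_smul_eq_smul, Pi.smul_apply,
      smul_eq_mul] at h3
    by_contra hne
    exact hpq (two_zpow_inj (k := k) (mul_right_cancel₀ hne h3))
  -- the approximations
  have hΦ : ∀ (u : Pt k N k) (Z : Pt k N k[X]), push toL Z = dT k s * cst _ u * (dT k s)⁻¹ →
      ∀ f ∈ inv π, toL ((Z * cst k[X] b : Pt k N k[X]) f) = φ (u * b) f := fun u Z hZ f hf => by
    have h1 : push toL (Z * cst k[X] b) = φ (u * b) * ofSub π g' := by
      rw [map_mul, hZ, push_cst, mul_assoc (dT k s * cst _ u), hg', ← mul_assoc, mul_assoc (dT k s), ← map_mul]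
    rw [← push_apply, h1, inv_apply_mul π hf]
  have key : ∀ E : ℕ, ∃ (u : Pt k N k) (Z : Pt k N k[X]), push toL Z = dT k s * cst _ u * (dT k s)⁻¹ ∧
      push ev0 Z = 1 ∧ ∀ f : inv π, X ^ (E + 1) ∣ P f - (Z * cst k[X] b : Pt k N k[X]) (f : B) := by
    intro E
    induction E with
    | zero =>
      refine ⟨1, 1, ?_, map_one _, fun f => ?_⟩
      · rw [map_one, map_one, mul_one, mul_inv_cancel]
      · rw [zero_add, pow_one, one_mul, Polynomial.X_dvd_iff, Polynomial.coeff_sub, push_apply,
          Algebra.ofId_apply, Polynomial.algebraMap_eq, Polynomial.coeff_C_zero, ← ev0_apply, ← AlgHom.comp_apply,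
          ← hb, sub_self]
    | succ E ih =>
      obtain ⟨u, Z, hZ, hZ0, hcong⟩ := ih
      let Φ : inv π →ₐ[k] k[X] := ((Z * cst k[X] b : Pt k N k[X]).ofConv).comp (inv π).val
      let Δ : inv π →ₗ[k] k := (Polynomial.lcoeff k (E + 1)).comp (P.toLinearMap - Φ.toLinearMap)
      have hΔ : ∀ f, Δ f = (P f - Φ f).coeff (E + 1) := fun f => rfl
      have hΦ0 : ∀ f : inv π, (Φ f).coeff 0 = b (f : B) := fun f => by
        have h1 : push ev0 (Z * cst k[X] b) = b := by rw [map_mul, hZ0, push_cst, one_mul]; rfl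
        exact (ev0_apply _).symm.trans (congrArg (fun y : Pt k N k => y (f : B)) h1)
      have hP0 : ∀ f : inv π, (P f).coeff 0 = b (f : B) := fun f => (ev0_apply _).symm.trans (hb f).symm
      have hder : ∀ f f' : inv π, Δ (f * f') = b (f : B) * Δ f' + b (f' : B) * Δ f := fun f f' => by
        obtain ⟨q, hq⟩ : X ^ (E + 1) ∣ P f - Φ f := hcong f
        obtain ⟨q', hq'⟩ : X ^ (E + 1) ∣ P f' - Φ f' := hcong f'
        have h1 : P (f * f') - Φ (f * f') = X ^ (E + 1) * (P f * q' + Φ f' * q) := by
          rw [map_mul, map_mul]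
          linear_combination P f * hq' + Φ f' * hq
        have hc0 : ∀ p : k[X], (X ^ (E + 1) * p).coeff (E + 1) = p.coeff 0 := fun p => by
          simpa using Polynomial.coeff_X_pow_mul p (E + 1) 0
        rw [hΔ, hΔ, hΔ, h1, hq, hq', hc0, hc0, hc0, Polynomial.coeff_add, Polynomial.mul_coeff_zero,
          Polynomial.mul_coeff_zero, hP0, hΦ0]
      have hΔg : ∀ i, e i ≠ ((E + 1 : ℕ) : ℤ) → Δ (gi i) = 0 := fun i hi => by
        rw [hΔ, ← toL_coeff, map_sub, hP]
        show ((φ c (g i)) - toL ((Z * cst k[X] b : Pt k N k[X]) (g i))).coeff _ = 0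
        rw [hΦ u Z hZ _ (hg i), hφ, hφ, AddMonoidAlgebra.coeff_sub, Finsupp.sub_apply, C_mul_T_coeff,
          C_mul_T_coeff, if_neg hi, if_neg hi, sub_zero]
      let I := {i : Fin n // e i = ((E + 1 : ℕ) : ℤ)}
      let S := {pq : Fin N × Fin N // s pq.1 - s pq.2 = ((E + 1 : ℕ) : ℤ)}
      let L : (S → k) →ₗ[k] (I → k) := LinearMap.pi fun i => ∑ pq : S, grad b (g i.1) pq.1 • LinearMap.proj pq
      have hL : (fun i : I => Δ (gi i.1)) ∈ LinearMap.range L := by
        by_contra hnot
        obtain ⟨ψ, hψ1, hψ2⟩ := Submodule.exists_dual_map_eq_bot_of_notMem hnot inferInstance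
        let ci : I → k := fun i => ψ (Pi.single i 1)
        have hψ : ∀ v, ψ v = ∑ i, ci i * v i := fun v => by
          conv_lhs => rw [pi_eq_sum_univ' v]
          simp [map_sum, ci, mul_comm]
        let f0 : inv π := ∑ i : I, ci i • gi i.1
        have hgf : grad b (f0 : B) = 0 := by
          have hgl : grad b (f0 : B) = ∑ i : I, ci i • grad b (g i.1) := by
            have := map_sum ({ toFun := grad b, map_add' := grad_add b, map_smul' := grad_smul b } :
              B →ₗ[k] (Fin N × Fin N → k)) (fun i : I => ci i • g i.1) Finset.univ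
            simp only [LinearMap.coe_mk, AddHom.coe_mk, grad_smul] at this
            rw [← this]
            simp [f0, gi]
          rw [hgl]
          refine funext fun pq => ?_
          rw [Finset.sum_apply]
          by_cases hpq : s pq.1 - s pq.2 = ((E + 1 : ℕ) : ℤ)
          · have hmem : ψ (L (Pi.single ⟨pq, hpq⟩ 1)) ∈ Submodule.map ψ (LinearMap.range L) :=
              Submodule.mem_map_of_mem (LinearMap.mem_range_self _ _)
            rw [hψ2, Submodule.mem_bot, hψ] at hmem
            refine Eq.trans ?_ hmem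
            refine Finset.sum_congr rfl fun i _ => ?_
            rw [Pi.smul_apply, smul_eq_mul]
            congr 1
            simp only [L, LinearMap.pi_apply, LinearMap.sum_apply, LinearMap.smul_apply, LinearMap.proj_apply,
              smul_eq_mul]
            rw [Finset.sum_eq_single ⟨pq, hpq⟩ (fun r _ hr => by rw [Pi.single_eq_of_ne hr, mul_zero]) (by simp),
              Pi.single_eq_same, mul_one]
          · exact Finset.sum_eq_zero fun i _ => by
              rw [Pi.smul_apply, hgrad i.1 pq.1 pq.2 (by rw [i.2]; exact hpq), smul_zero]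
        have hbf : b (f0 : B) = 0 := by
          have : b (f0 : B) = ∑ i : I, ci i • b (g i.1) := by simp [f0, gi]
          rw [this]
          refine Finset.sum_eq_zero fun i _ => ?_
          rw [(hbg i.1).resolve_left (by rw [i.2]; omega), smul_zero]
        have hsq : ∀ f ∈ vanish π b ^ 2, Δ f = 0 := fun f hf => by
          rw [pow_two] at hf
          induction hf using Submodule.mul_induction_on' with
          | mem_mul_mem x hx y hy =>
            rw [hder, show b (x : B) = 0 from hx, show b (y : B) = 0 from hy, zero_mul, zero_mul, add_zero]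
          | add x _ y _ hx hy => rw [map_add, hx, hy, add_zero]
        have h0 := hsq f0 (mem_sq_of_grad_eq_zero π hA hπ b f0 hbf hgf)
        refine hψ1 ?_
        rw [hψ, ← h0, map_sum]
        simp
      obtain ⟨x, hx⟩ := hL
      let Xm : Matrix (Fin N) (Fin N) k := Matrix.of fun p q =>
        if h : s p - s q = ((E + 1 : ℕ) : ℤ) then x ⟨(p, q), h⟩ else 0
      have hXm : ∀ p q, s p - s q ≠ ((E + 1 : ℕ) : ℤ) → Xm p q = 0 := fun p q h => dif_neg h
      have hXg : ∀ f : inv π, tanFun Xm (grad b (f : B)) = Δ f := by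
        refine hgenT _ (fun i => ?_) (fun r => ?_) (fun f f' hf hf' => ?_) (fun f f' hf hf' => ?_)
        · by_cases hi : e i = ((E + 1 : ℕ) : ℤ)
          · refine Eq.trans ?_ (congrFun hx ⟨i, hi⟩)
            simp only [tanFun_apply, L, LinearMap.pi_apply, LinearMap.sum_apply, LinearMap.smul_apply,
              LinearMap.proj_apply, smul_eq_mul, gi]
            refine (Finset.sum_subset (Finset.subset_univ
              (Finset.univ.filter fun pq : Fin N × Fin N => s pq.1 - s pq.2 = ((E + 1 : ℕ) : ℤ)))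
              fun pq _ hpq => ?_).symm.trans ?_
            · rw [hXm _ _ (by simpa using hpq), zero_mul]
            · refine (Finset.sum_subtype (p := fun pq : Fin N × Fin N => s pq.1 - s pq.2 = ((E + 1 : ℕ) : ℤ))
                _ (fun _ => by simp) _).trans (Finset.sum_congr rfl fun pq _ => ?_)
              simp [Xm, pq.2, mul_comm]
          · rw [hΔg i hi, tanFun_apply]
            refine Finset.sum_eq_zero fun pq _ => ?_
            by_cases hpq : s pq.1 - s pq.2 = ((E + 1 : ℕ) : ℤ)
            · rw [hgrad i pq.1 pq.2 (by rw [hpq]; exact Ne.symm hi), mul_zero]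
            · rw [hXm _ _ hpq, zero_mul]
        · rw [hΔ, AlgHom.commutes, AlgHom.commutes, sub_self, Polynomial.coeff_zero,
            show grad b ((algebraMap k (inv π) r : inv π) : B) = 0 from ?_, map_zero]
          simp [grad, Algebra.algebraMap_eq_smul_one]
        · rw [map_add, Subalgebra.coe_add, grad_add, map_add, hf, hf']
        · rw [hder, Subalgebra.coe_mul, grad_mul, map_add, map_smul, map_smul, hf, hf', smul_eq_mul, smul_eq_mul]
      obtain ⟨w, W, hW, hW0, hWm⟩ := exists_step s (E + 1) (Nat.succ_ne_zero E) Xm hXm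
      refine ⟨u * w, Z * W, ?_, by rw [map_mul, hZ0, hW0, mul_one], fun f => ?_⟩
      · rw [map_mul, hZ, hW, map_mul]
        group
      · obtain ⟨q1, hq1⟩ := hcong f
        obtain ⟨q2, hq2⟩ := step_congr (E + 1) (Nat.succ_ne_zero E) Xm W hWm Z hZ0 b (f : B)
        have h1 : (q1.coeff 0) = Δ f := by
          rw [hΔ, show P f - Φ f = X ^ (E + 1) * q1 from hq1]
          simpa using (Polynomial.coeff_X_pow_mul q1 (E + 1) 0).symm
        obtain ⟨q3, hq3⟩ : X ∣ q1 - Polynomial.C (Δ f) := by
          rw [Polynomial.X_dvd_iff, Polynomial.coeff_sub, Polynomial.coeff_C_zero, h1, sub_self]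
        rw [hXg] at hq2
        refine ⟨q3 - q2, ?_⟩
        linear_combination hq1 - hq2 + X ^ (E + 1) * hq3
  obtain ⟨u, Z, hZ, -, hcong⟩ := key (Finset.univ.sup fun i => (e i).toNat)
  have huc : ∀ f ∈ inv π, c f = algebraMap k k ((u * b) f) := hgext _ c (u * b) fun i => by
    have h1 : toL (P (gi i)) - toL ((Z * cst k[X] b : Pt k N k[X]) (g i)) =
        algebraMap k _ (c (g i) - (u * b) (g i)) * LaurentPolynomial.T (e i) := by
      rw [hP, hΦ u Z hZ _ (hg i), hφ]
      rw [hφ, map_sub, sub_mul]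
    by_cases he : e i < 0
    · obtain ⟨m, hm⟩ : ∃ m : k[X], toL m = algebraMap k _ (c (g i) - (u * b) (g i)) * LaurentPolynomial.T (e i) :=
        ⟨_, by rw [map_sub]; exact h1⟩
      have h2 := congrArg (fun x => AddMonoidAlgebra.coeff x (e i)) hm
      simp only [C_mul_T_coeff, if_true] at h2
      rw [← sub_eq_zero, ← h2, toL, Polynomial.toLaurentAlg_apply, LaurentPolynomial.coeff_toLaurent]
      exact Finsupp.mapDomain_of_notMem_range _ _ (by rintro ⟨m, hm⟩; simp at hm; omega)
    · obtain ⟨j, hj⟩ : ∃ j : ℕ, e i = j := ⟨(e i).toNat, by omega⟩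
      obtain ⟨q, hq⟩ := hcong (gi i)
      have hle : j ≤ Finset.univ.sup fun i => (e i).toNat :=
        le_trans (by omega) (Finset.le_sup (f := fun i => (e i).toNat) (Finset.mem_univ i))
      have h2 := congrArg (fun x => AddMonoidAlgebra.coeff x (e i)) h1
      simp only [C_mul_T_coeff, if_true] at h2
      rw [← sub_eq_zero, ← h2, hj, ← map_sub, show P (gi i) - _ = _ from hq, toL_coeff,
        Polynomial.coeff_X_pow_mul', if_neg (by omega)]
  obtain ⟨h, hh⟩ := exists_eq_mul_ofSub π hA hπ (u * b) c huc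
  refine ⟨b * ofSub π h, ⟨Z, ?_⟩, fun f hf => ?_⟩
  · rw [hZ, hh, show cst k (u * b) = u * b from push_id _, mul_assoc u b, mul_inv_cancel_right]
  · rw [map_mul, show cst k[T;T⁻¹] (ofSub π h) = _ from push_ofSub π _ h, ← mul_assoc,
      inv_apply_mul π hf, hfix f hf, inv_apply_mul π hf]

end Groth.Agent.HMGit
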