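import Groth.Agent.HMGit.Tangent
import Mathlib.Algebra.Polynomial.Laurent
import Mathlib.Algebra.Polynomial.Div
import Mathlib.RingTheory.Ideal.Quotient.Operations
import Mathlib.Data.Matrix.Basic

/-! Polynomial points and their first-order changes. -/

set_option autoImplicit false
set_option linter.style.haveILetI false
set_option linter.unusedSectionVars false

open WithConv Polynomial
open scoped LaurentPolynomial TensorProduct
open TrivSqZeroExt (inl inr fst snd)

universe u v

namespace Groth.Agent.HMGit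

variable {k : Type u} [Field k] {N : ℕ}

/-- Polynomials as Laurent polynomials. -/
noncomputable abbrev toL : k[X] →ₐ[k] k[T;T⁻¹] := Polynomial.toLaurentAlg

theorem toL_coeff (p : k[X]) (n : ℕ) : (toL p).coeff (n : ℤ) = p.coeff n := by
  rw [toL, Polynomial.toLaurentAlg_apply, LaurentPolynomial.coeff_toLaurent]
  exact Finsupp.mapDomain_apply Nat.castEmbedding.injective _ n

/-- Evaluation of polynomials at zero. -/
noncomputable abbrev ev0 : k[X] →ₐ[k] k := Polynomial.aeval 0

theorem ev0_apply (p : k[X]) : ev0 p = p.coeff 0 := by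
  rw [ev0, Polynomial.aeval_def, Polynomial.eval₂_at_zero]
  rfl

variable {C : Type v} [CommRing C] [Algebra k C]

/-- An infinitesimal right factor changes a value by its derivative. -/
theorem mul_apply_of_dual (η : C) (j : DualNumber k →ₐ[k] C) (hj : ∀ a : k, j (inr a) = a • η)
    (y : Pt k N C) (hy : ∀ a, (y a - algebraMap k C ((1 : Pt k N k) a)) * η = 0)
    (b : Pt k N k) (z : Pt k N (DualNumber k)) (hz : push (TrivSqZeroExt.fstHom k k k) z = b)
    (f : CoordGrp.GLn N k) :
    (y * push j z) f = (y * cst C b) f + snd (z f) • η := by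
  have hzc : ∀ c, j (z c) = algebraMap k C (b c) + snd (z c) • η := fun c => by
    have h1 : fst (z c) = b c := by rw [← hz]; rfl
    conv_lhs => rw [← TrivSqZeroExt.inl_fst_add_inr_snd_eq (z c), map_add, hj, h1,
      ← TrivSqZeroExt.algebraMap_eq_inl, AlgHom.commutes]
  have h1 : ∀ x : CoordGrp.GLn N k ⊗[k] CoordGrp.GLn N k,
      Algebra.TensorProduct.lift y.ofConv (push j z).ofConv (fun _ _ => .all ..) x =
        Algebra.TensorProduct.lift y.ofConv (cst C b).ofConv (fun _ _ => .all ..) x +
          snd (Algebra.TensorProduct.lift (cst (DualNumber k) (1 : Pt k N k)).ofConv z.ofConv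
            (fun _ _ => .all ..) x) • η := by
    intro x
    induction x using TensorProduct.induction_on with
    | zero => simp
    | add p q hp hq =>
      simp only [map_add, TrivSqZeroExt.snd_add, add_smul, hp, hq]
      abel
    | tmul a c =>
      simp only [Algebra.TensorProduct.lift_tmul]
      show y a * j (z c) = y a * algebraMap k C (b c) +
        snd (algebraMap k (DualNumber k) ((1 : Pt k N k) a) * z c) • η
      rw [hzc, mul_add, ← Algebra.smul_def, TrivSqZeroExt.snd_smul, smul_assoc, mul_smul_comm]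
      congr 1
      have h := hy a
      rw [sub_mul, sub_eq_zero, ← Algebra.smul_def] at h
      rw [h, smul_comm]
  rw [AlgHom.convMul_apply, AlgHom.convMul_apply, h1]
  congr 2
  have h2 : z f = (cst (DualNumber k) (1 : Pt k N k) * z) f :=
    congrArg (fun y : Pt k N (DualNumber k) => y f) (show z = _ * z by rw [map_one]; exact (one_mul z).symm)
  conv_rhs => rw [h2, AlgHom.convMul_apply]

variable (k) in
/-- The units `T ^ s`. -/
noncomputable def Tu (n : ℤ) : k[T;T⁻¹]ˣ :=
  ⟨LaurentPolynomial.T n, LaurentPolynomial.T (-n),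
    by rw [← LaurentPolynomial.T_add, add_neg_cancel, LaurentPolynomial.T_zero],
    by rw [← LaurentPolynomial.T_add, neg_add_cancel, LaurentPolynomial.T_zero]⟩

theorem dT_eq_diagPt (s : Fin N → ℤ) : dT k s = diagPt fun p => Tu k (s p) := by
  refine pt_ext ?_
  rw [mat_dT, mat_diagPt]
  rfl

/-- Conjugation of a matrix by the one-parameter subgroup. -/
theorem mat_conj (s : Fin N → ℤ) (u : Pt k N k) (p q : Fin N) :
    mat (dT k s * cst _ u * (dT k s)⁻¹) p q =
      LaurentPolynomial.T (s p - s q) * algebraMap k k[T;T⁻¹] (mat u p q) := by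
  rw [← dT_neg, mat_mul, mat_mul, mat_dT, mat_dT, mat_cst, Matrix.mul_diagonal, Matrix.diagonal_mul,
    Matrix.map_apply, Pi.neg_apply, mul_right_comm, ← LaurentPolynomial.T_add, ← sub_eq_add_neg]

variable (s : Fin N → ℤ)

/-- An elementary step: a polynomial family `1 + t ^ E X`. -/
theorem exists_step (E : ℕ) (hE : E ≠ 0) (Xm : Matrix (Fin N) (Fin N) k)
    (hX : ∀ p q, s p - s q ≠ E → Xm p q = 0) :
    ∃ (w : Pt k N k) (W : Pt k N k[X]), push toL W = dT k s * cst _ w * (dT k s)⁻¹ ∧
      push ev0 W = 1 ∧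
      mat W = (1 : Matrix (Fin N) (Fin N) k[X]) + Matrix.of fun p q => Polynomial.C (Xm p q) * X ^ E := by
  let M : Matrix (Fin N) (Fin N) k[X] := 1 + Matrix.of fun p q => Polynomial.C (Xm p q) * X ^ E
  let Dm : Matrix (Fin N) (Fin N) k[T;T⁻¹] := Matrix.diagonal fun p => LaurentPolynomial.T (s p)
  have hconj : toL.mapMatrix M * Dm = Dm * (Algebra.ofId k k[T;T⁻¹]).mapMatrix (1 + Xm) := by
    refine Matrix.ext fun p q => ?_
    simp only [Dm, Matrix.mul_diagonal, Matrix.diagonal_mul, AlgHom.mapMatrix_apply, Matrix.map_apply, M,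
      Matrix.add_apply, Matrix.of_apply, map_add, map_mul]
    rw [add_mul, mul_add]
    congr 1
    · by_cases h : p = q
      · subst h
        simp [mul_comm]
      · simp [h]
    · by_cases h : s p - s q = E
      · rw [show s p = (E : ℤ) + s q by omega, LaurentPolynomial.T_add]
        rw [← map_mul toL, Polynomial.toLaurentAlg_apply, Polynomial.toLaurent_C_mul_X_pow]
        show LaurentPolynomial.C (Xm p q) * LaurentPolynomial.T (E : ℤ) * LaurentPolynomial.T (s q) =
          LaurentPolynomial.T (E : ℤ) * LaurentPolynomial.T (s q) * LaurentPolynomial.C (Xm p q)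
        ring
      · simp [hX p q h]
  have hdet : toL M.det = toL (Polynomial.C (1 + Xm).det) := by
    have h := congrArg Matrix.det hconj
    rw [Matrix.det_mul, Matrix.det_mul, mul_comm Dm.det] at h
    have hD : IsUnit Dm.det := (Matrix.isUnit_iff_isUnit_det _).mp
      (by have := isUnit_mat (dT k s); rwa [mat_dT] at this)
    have h2 := hD.mul_right_cancel h
    rw [← AlgHom.map_det, ← AlgHom.map_det] at h2
    rw [h2, ← Polynomial.algebraMap_eq, AlgHom.commutes]
    rfl
  have hM0 : ev0.mapMatrix M = 1 := by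
    refine Matrix.ext fun p q => ?_
    simp [M, Matrix.one_apply, apply_ite, zero_pow hE]
  have hdet1 : (1 + Xm).det = 1 := by
    have h := congrArg ev0 (Polynomial.toLaurent_injective hdet)
    rw [AlgHom.map_det, hM0, Matrix.det_one, ev0_apply, Polynomial.coeff_C_zero] at h
    exact h.symm
  have hMu : IsUnit M := by
    rw [Matrix.isUnit_iff_isUnit_det, Polynomial.toLaurent_injective hdet, hdet1, map_one]
    exact isUnit_one
  have hwu : IsUnit (1 + Xm) := by rw [Matrix.isUnit_iff_isUnit_det, hdet1]; exact isUnit_one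
  refine ⟨mkPt (k := k) _ hwu, mkPt _ hMu, ?_, ?_, mat_mkPt _ _⟩
  · rw [eq_mul_inv_iff_mul_eq]
    refine pt_ext ?_
    rw [mat_mul, mat_mul, mat_push, mat_dT, mat_mkPt, mat_cst, mat_mkPt]
    exact hconj
  · refine pt_ext ?_
    rw [mat_push, mat_mkPt, mat_one]
    exact hM0

/-- The effect of an elementary step modulo one more power of the variable. -/
theorem step_congr (E : ℕ) (hE : E ≠ 0) (Xm : Matrix (Fin N) (Fin N) k) (W : Pt k N k[X])
    (hW : mat W = (1 : Matrix (Fin N) (Fin N) k[X]) + Matrix.of fun p q => Polynomial.C (Xm p q) * X ^ E)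
    (Z : Pt k N k[X]) (hZ : push ev0 Z = 1) (b : Pt k N k) (f : CoordGrp.GLn N k) :
    X ^ (E + 1) ∣ (Z * W * cst k[X] b : Pt k N k[X]) f - (Z * cst k[X] b : Pt k N k[X]) f -
      Polynomial.C (tanFun Xm (grad b f)) * X ^ E := by
  let I : Ideal k[X] := Ideal.span {X ^ (E + 1)}
  let qm : k[X] →ₐ[k] k[X] ⧸ I := Ideal.Quotient.mkₐ k I
  have hI : ∀ p, qm p = 0 ↔ X ^ (E + 1) ∣ p := fun p =>
    Ideal.Quotient.eq_zero_iff_mem.trans Ideal.mem_span_singleton
  let η : k[X] ⧸ I := qm (X ^ E)
  have hη : η * η = 0 := by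
    rw [← map_mul, hI, ← pow_add]
    exact pow_dvd_pow X (by omega)
  let j : DualNumber k →ₐ[k] k[X] ⧸ I := TrivSqZeroExt.liftEquivOfComm
    ⟨LinearMap.toSpanSingleton k _ η, fun a c => by
      simp only [LinearMap.toSpanSingleton_apply, smul_mul_smul_comm, hη, smul_zero]⟩
  have hj : ∀ a : k, j (inr a) = a • η := fun a => by
    rw [show j = _ from TrivSqZeroExt.liftEquivOfComm_apply _, TrivSqZeroExt.lift_apply_inr,
      LinearMap.toSpanSingleton_apply]
  have hjW : push qm W = push j (tanPt fun p q => Xm p q) := by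
    refine pt_ext (Matrix.ext fun p q => ?_)
    rw [mat_push, mat_push, hW, mat_tanPt]
    simp only [Matrix.map_apply, Matrix.add_apply, Matrix.of_apply, map_add, map_mul, hj]
    rw [← Polynomial.algebraMap_eq, AlgHom.commutes, ← Algebra.smul_def]
    simp [Matrix.one_apply, apply_ite qm, apply_ite j, η]
  have hy : ∀ a, ((push qm Z) a - algebraMap k _ ((1 : Pt k N k) a)) * η = 0 := fun a => by
    show (qm (Z a) - _) * qm (X ^ E) = 0
    rw [← qm.commutes, ← map_sub, ← map_mul, hI, pow_succ']
    refine mul_dvd_mul_right (Polynomial.X_dvd_iff.mpr ?_) _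
    rw [Polynomial.coeff_sub, Polynomial.algebraMap_eq, Polynomial.coeff_C_zero, ← hZ, push_apply, ev0_apply,
      sub_self]
  rw [← hI, map_sub, map_sub, sub_sub, sub_eq_zero]
  have h := mul_apply_of_dual η j hj (push qm Z) hy b
    (tanPt (fun p q => Xm p q) * cst (DualNumber k) b) (by rw [map_mul, fst_tanPt, push_cst, one_mul]; rfl) f
  rw [map_mul, ← hjW, push_cst, ← tanFun_grad] at h
  have h1 : push qm (Z * W * cst k[X] b) = push qm Z * (push qm W * cst (k[X] ⧸ I) b) := by
    rw [map_mul, map_mul, push_cst]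
    exact mul_assoc (G := Pt k N (k[X] ⧸ I)) _ _ _
  have h2 : push qm (Z * cst k[X] b) = push qm Z * cst (k[X] ⧸ I) b := by rw [map_mul, push_cst]
  refine (congrArg (fun y : Pt k N (k[X] ⧸ I) => y f) h1).trans ?_
  refine h.trans ?_
  refine congrArg₂ (· + ·) (congrArg (fun y : Pt k N (k[X] ⧸ I) => y f) h2).symm ?_
  rw [map_mul qm, ← Polynomial.algebraMap_eq, AlgHom.commutes, ← Algebra.smul_def]

end Groth.Agent.HMGit
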