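import Groth.Agent.HMGit.Attractor
import Groth.Agent.SmoothFormLib.Valuative
import Groth.Agent.ComodLib.Mu
import Groth.Prelude.Def_SGA3t2b
import Mathlib.RingTheory.Bialgebra.MonoidAlgebra
import Mathlib.Algebra.Order.GroupWithZero.Canonical
import Mathlib.Algebra.Order.Monoid.TypeTags

/-! From a valued point of the group to a one-parameter subgroup. -/

set_option autoImplicit false
set_option linter.style.haveILetI false
set_option linter.unusedSectionVars false

open WithConv Polynomial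
open scoped LaurentPolynomial TensorProduct

universe u v

namespace Groth.Agent.HMGit

variable {k : Type u} [Field k] {A : Type u} [CommRing A] [HopfAlgebra k A] {N : ℕ}
variable {C : Type v} [CommRing C] [Algebra k C]

theorem push_counit_dT (s : Fin N → ℤ) : push (Bialgebra.counitAlgHom k k[T;T⁻¹]) (dT k s) = 1 := by
  refine pt_ext (Matrix.ext fun p q => ?_)
  rw [mat_push, mat_dT, mat_one, Matrix.map_apply, Matrix.diagonal_apply, Matrix.one_apply, apply_ite
    (Bialgebra.counitAlgHom k k[T;T⁻¹]), map_zero]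
  refine if_congr Iff.rfl ?_ rfl
  show Coalgebra.counit (R := k) (LaurentPolynomial.T (s p) : k[T;T⁻¹]) = _
  simp

theorem push_comul_dT (s : Fin N → ℤ) :
    push (Bialgebra.comulAlgHom k k[T;T⁻¹]) (dT k s) =
      push Algebra.TensorProduct.includeLeft (dT k s) * push Algebra.TensorProduct.includeRight (dT k s) := by
  refine pt_ext ?_
  rw [mat_mul, mat_push, mat_push, mat_push, mat_dT, Matrix.diagonal_map (map_zero _),
    Matrix.diagonal_map (map_zero _), Matrix.diagonal_map (map_zero _), Matrix.diagonal_mul_diagonal]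
  congr 1
  funext p
  show Coalgebra.comul (R := k) (LaurentPolynomial.T (s p) : k[T;T⁻¹]) = _
  simp

theorem map_comp_comul_eq (π : CoordGrp.GLn N k →ₐc[k] A) (f : A →ₐ[k] k[T;T⁻¹]) (a : CoordGrp.GLn N k) :
    Algebra.TensorProduct.map f f (Coalgebra.comul (R := k) (π a)) =
      (push Algebra.TensorProduct.includeLeft (ofSub π (toConv f)) *
        push Algebra.TensorProduct.includeRight (ofSub π (toConv f)) : Pt k N (k[T;T⁻¹] ⊗[k] k[T;T⁻¹])) a := by
  rw [← CoalgHomClass.map_comp_comul_apply, AlgHom.convMul_apply]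
  generalize Coalgebra.comul (R := k) a = z
  induction z using TensorProduct.induction_on with
  | zero => simp
  | tmul x y => simp [push, ofSub]
  | add x y hx hy => simp only [map_add, hx, hy]

/-- A conjugate of the diagonal subgroup with values in the subgroup is a bialgebra map. -/
theorem exists_bialgHom (π : CoordGrp.GLn N k →ₐc[k] A) (hπ : Function.Surjective π) (r : Fin N → ℤ)
    (γ : Pt k N k) (f : WithConv (A →ₐ[k] k[T;T⁻¹]))
    (hf : ofSub π f = (cst k[T;T⁻¹] γ)⁻¹ * dT k r * cst k[T;T⁻¹] γ) :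
    ∃ lam : A →ₐc[k] k[T;T⁻¹], (lam : A →ₐ[k] k[T;T⁻¹]) = f.ofConv := by
  refine ⟨BialgHom.ofAlgHom f.ofConv (AlgHom.ext fun a => ?_) (AlgHom.ext fun a => ?_), rfl⟩
  · obtain ⟨b, rfl⟩ := hπ a
    have h : push (Bialgebra.counitAlgHom k k[T;T⁻¹]) (ofSub π f) = 1 := by
      rw [hf, map_mul, map_mul, map_inv, push_counit_dT, mul_one, inv_mul_cancel]
    refine (congrArg (fun y : Pt k N k => y b) h).trans ?_
    exact (CoalgHomClass.counit_comp_apply π b).symm
  · obtain ⟨b, rfl⟩ := hπ a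
    have h : push (Bialgebra.comulAlgHom k k[T;T⁻¹]) (ofSub π f) =
        push Algebra.TensorProduct.includeLeft (ofSub π f) * push Algebra.TensorProduct.includeRight (ofSub π f) := by
      rw [hf]
      simp only [map_mul, map_inv, push_cst, push_comul_dT]
      group
    exact (map_comp_comul_eq π f.ofConv b).trans (congrArg (fun y : Pt k N _ => y b) h).symm

theorem apply_mem_of_mat_mem {K : Type v} [Field K] [Algebra k K] (V : ValuationSubring K)
    (hk : ∀ a : k, algebraMap k K a ∈ V) (y : Pt k N K) (hX : ∀ i j, mat y i j ∈ V)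
    (hD : y CoordGrp.GLn.Dinv ∈ V) (a : CoordGrp.GLn N k) : y a ∈ V := by
  let S : Subalgebra k K := { V.toSubring.toSubsemiring with algebraMap_mem' := hk }
  let Φ : MvPolynomial (CoordGrp.GLPoly.Idx N) k →ₐ[k] K := y.ofConv.comp (CoordGrp.GLn.mk N k)
  obtain ⟨P, rfl⟩ : ∃ P, CoordGrp.GLn.mk N k P = a := Ideal.Quotient.mk_surjective a
  have htop : (⊤ : Subalgebra k (MvPolynomial (CoordGrp.GLPoly.Idx N) k)) ≤ S.comap Φ := by
    rw [← MvPolynomial.adjoin_range_X]
    refine Algebra.adjoin_le ?_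
    rintro _ ⟨(⟨i, j⟩ | ⟨⟩), rfl⟩
    exacts [hX i j, hD]
  exact htop (Algebra.mem_top (x := P))

/-- The coordinates of a vector moved by a point of the group. -/
noncomputable def rowVec (π : CoordGrp.GLn N k →ₐc[k] A) (ψ : A →ₐ[k] C) (w : Fin N → k) (q : Fin N) : C :=
  ∑ p, algebraMap k C (w p) * ψ (π (CoordGrp.GLn.X p q))

theorem rowVec_eq (π : CoordGrp.GLn N k →ₐc[k] A) (ψ : A →ₐ[k] C) (w : Fin N → k) :
    rowVec π ψ w = Matrix.vecMul (fun p => algebraMap k C (w p)) (mat (ofSub π (toConv ψ))) := rfl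

section Main

variable [IsAlgClosed k] [CharZero k] [Algebra.FiniteType k A]

/-- A valued point gives a one-parameter subgroup with the same behaviour on a vector. -/
theorem exists_oneParam (π : CoordGrp.GLn N k →ₐc[k] A) (hπ : Function.Surjective π)
    (hA : HopfRep.IsLinearlyReductive k A) {K : Type u} [Field K] [Algebra k K] (V : ValuationSubring K)
    (hk : ∀ a : k, algebraMap k K a ∈ V) (ψ : A →ₐ[k] K) (w : Fin N → k) (hV : ∀ q, rowVec π ψ w q ∈ V) :
    ∃ lam : A →ₐc[k] k[T;T⁻¹],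
      (∀ q n, n < 0 → (rowVec π (lam : A →ₐ[k] k[T;T⁻¹]) w q).coeff n = 0) ∧
      ((∀ q, rowVec π ψ w q ∈ V.nonunits) → ∀ q, (rowVec π (lam : A →ₐ[k] k[T;T⁻¹]) w q).coeff 0 = 0) ∧
      ((∃ a, ψ a ∉ V) → ¬ SGA3t2b.IsTrivialBialgHom lam) := by
  classical
  let B := CoordGrp.GLn N k
  letI algV : Algebra k V := ((algebraMap k K).codRestrict V.toSubring hk).toAlgebra
  let incl : V →ₐ[k] K := ⟨V.subtype, fun a => rfl⟩
  let Ψ : Pt k N K := ofSub π (toConv ψ)
  obtain ⟨p, q, d, hp, hq, hpdq⟩ := SmoothFormLib.exists_diagonalisation V (Fin N) (mat Ψ)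
  have hd : ∀ j, d j ≠ 0 := by
    have h : IsUnit (mat Ψ).det := (Matrix.isUnit_iff_isUnit_det _).mp (isUnit_mat Ψ)
    rw [hpdq, Matrix.det_mul, Matrix.det_mul, Matrix.det_diagonal, IsUnit.mul_iff, IsUnit.mul_iff] at h
    exact fun j => Finset.prod_ne_zero_iff.mp h.1.2.ne_zero j (Finset.mem_univ j)
  let de : Fin N → Kˣ := fun j => Units.mk0 (d j) (hd j)
  let P : Pt k N V := mkPt p hp
  let Q : Pt k N V := mkPt q hq
  have hfac : Ψ = push incl P * diagPt de * push incl Q := by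
    refine pt_ext ?_
    rw [mat_mul, mat_mul, mat_push, mat_push, mat_diagPt, mat_mkPt, mat_mkPt]
    exact hpdq
  have hrot : diagPt de⁻¹ * push incl P⁻¹ = push incl Q * (Ψ)⁻¹ := by
    rw [hfac, ← diagPt_inv, map_inv]
    group
  -- valuations
  let Γ := V.ValueGroup
  let x : Fin N → Γˣ := fun j => Units.mk0 (V.valuation (d j)) ((Valuation.ne_zero_iff _).mpr (hd j))
  let cx : (Fin N → ℤ) → Γˣ := fun χ => ∏ j, x j ^ χ j
  have hXval : ∀ χ : Fin N → ℤ, V.valuation (wt de (Multiplicative.ofAdd χ)) = (cx χ : Γ) := fun χ => by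
    rw [wt_apply, Units.coe_prod, Units.coe_prod, map_prod]
    refine Finset.prod_congr rfl fun j _ => ?_
    rw [Units.val_zpow_eq_zpow_val, Units.val_zpow_eq_zpow_val, map_zpow₀]
    rfl
  obtain ⟨n, g, χ, hg, hwt, hgen⟩ := exists_homogeneous_generators π hA
  have hlow : ∀ i, cx (χ i) < 1 → (P⁻¹ : Pt k N V) (g i) ∈ IsLocalRing.maximalIdeal V := fun i hi => by
    have h1 : (diagPt de⁻¹ * push incl P⁻¹ : Pt k N K) (g i) = incl (Q (g i)) := by
      rw [hrot, show (Ψ)⁻¹ = ofSub π (toConv ψ)⁻¹ from (map_inv _ _).symm, inv_apply_mul π (hg i)]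
      rfl
    rw [(hwt i).apply] at h1
    rw [IsLocalRing.mem_maximalIdeal, mem_nonunits_iff]
    intro hu
    have h2 : V.valuation (incl ((P⁻¹ : Pt k N V) (g i))) = 1 := (V.valuation_eq_one_iff _).mp hu
    have hv := congrArg V.valuation h1
    rw [map_mul, show (push incl P⁻¹ : Pt k N K) (g i) = incl ((P⁻¹ : Pt k N V) (g i)) from rfl, h2, one_mul] at hv
    have h3 : wt de⁻¹ (Multiplicative.ofAdd (χ i)) * wt de (Multiplicative.ofAdd (χ i)) = 1 := by
      rw [← wt_mul, inv_mul_cancel, wt_one]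
    have h4 : V.valuation (wt de⁻¹ (Multiplicative.ofAdd (χ i))) ≤ 1 := hv ▸ V.valuation_le_one _
    have h5 := congrArg V.valuation h3
    rw [map_mul, map_one, hXval] at h5
    exact absurd h5 (ne_of_lt (lt_of_le_of_lt (mul_le_of_le_one_left' h4) (Units.val_lt_val.mpr hi)))
  -- the vector
  let strict : Prop := ∀ j, rowVec π ψ w j ∈ V.nonunits
  let wV : Fin N → V := fun j => Matrix.vecMul (fun i => algebraMap k V (w i)) p j
  have hwV : ∀ j, V.valuation (wV j : K) * (x j : Γ) ≤ 1 ∧ (strict → V.valuation (wV j : K) * (x j : Γ) < 1) := by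
    intro j
    obtain ⟨qi, -, hqi⟩ : ∃ qi : Matrix (Fin N) (Fin N) V, qi * q = 1 ∧ q * qi = 1 := by
      obtain ⟨u, rfl⟩ := hq
      exact ⟨↑u⁻¹, u.inv_mul, u.mul_inv⟩
    have h1 : ∀ i, (wV i : K) = Matrix.vecMul (fun i => algebraMap k K (w i)) (p.map V.subtype) i := fun i => by
      simp only [wV, Matrix.vecMul, dotProduct, Matrix.map_apply]
      rw [show ((∑ l, algebraMap k V (w l) * p l i : V) : K) = V.subtype _ from rfl, map_sum]
      rfl
    have h2 : (wV j : K) * d j = ∑ l, rowVec π ψ w l * (qi l j : K) := by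
      have h3 : Matrix.vecMul (rowVec π ψ w) (qi.map V.subtype) =
          Matrix.vecMul (Matrix.vecMul (fun i => algebraMap k K (w i)) (p.map V.subtype)) (Matrix.diagonal d) := by
        rw [rowVec_eq, show mat (ofSub π (toConv ψ)) = _ from hpdq, Matrix.vecMul_vecMul, Matrix.vecMul_vecMul,
          mul_assoc, ← Matrix.map_mul (f := V.subtype), hqi, Matrix.map_one _ (map_zero _) (map_one _), mul_one]
      have h4 := congrFun h3 j
      rw [Matrix.vecMul_diagonal, ← h1] at h4
      exact h4.symm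
    refine ⟨?_, fun hs => ?_⟩ <;>
      rw [show (x j : Γ) = V.valuation (d j) from rfl, ← map_mul, h2]
    · exact V.valuation.map_sum_le fun l _ =>
        (map_mul _ _ _).trans_le (mul_le_one' ((V.valuation_le_one_iff _).mpr (hV l)) (V.valuation_le_one _))
    · exact V.valuation.map_sum_lt one_ne_zero fun l _ => (map_mul _ _ _).trans_lt
        (mul_lt_one_of_lt_of_le ((ValuationSubring.mem_nonunits_iff (A := V)).mp (hs l)) (V.valuation_le_one _))
  let J : Fin N → Prop := fun j => 1 < x j ∨ (strict ∧ x j = 1)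
  have hwJ : ∀ j, J j → wV j ∈ IsLocalRing.maximalIdeal V := fun j hj => by
    rw [IsLocalRing.mem_maximalIdeal, mem_nonunits_iff]
    intro hu
    have h2 : V.valuation (wV j : K) = 1 := (V.valuation_eq_one_iff _).mp hu
    rcases hj with hj | ⟨hs, hj⟩
    · have := (hwV j).1
      rw [h2, one_mul] at this
      exact absurd this (not_le.mpr (Units.val_lt_val.mpr hj))
    · have := (hwV j).2 hs
      rw [h2, one_mul, hj, Units.val_one] at this
      exact lt_irrefl _ this
  -- a rational point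
  let res : V →ₐ[k] IsLocalRing.ResidueField V := IsScalarTower.toAlgHom k V _
  let fw : Fin N → B := fun j => ∑ i, algebraMap k B (w i) * HopfAlgebra.antipode k (CoordGrp.GLn.X i j : B)
  have hfw : ∀ {C : Type u} [CommRing C] [Algebra k C] (y : Pt k N C) (j : Fin N),
      y (fw j) = Matrix.vecMul (fun i => algebraMap k C (w i)) (mat y⁻¹) j := by
    intro C _ _ y j
    simp only [fw, map_sum, map_mul, Matrix.vecMul, dotProduct]
    exact Finset.sum_congr rfl fun i _ => congrArg (· * _) (y.ofConv.commutes (w i))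
  let I : Ideal B := Ideal.span
    ((Set.range fun i : {i // cx (χ i) < 1} => g i.1) ∪ Set.range fun j : {j // J j} => fw j.1)
  have hI : I ≠ ⊤ := fun htop => by
    have hle : I ≤ RingHom.ker (res.comp (P⁻¹ : Pt k N V).ofConv) := Ideal.span_le.mpr (by
      rintro _ (⟨i, rfl⟩ | ⟨j, rfl⟩)
      · exact IsLocalRing.residue_eq_zero_iff _ |>.mpr (hlow _ i.2)
      · refine IsLocalRing.residue_eq_zero_iff _ |>.mpr ?_
        show (P⁻¹ : Pt k N V) (fw j.1) ∈ IsLocalRing.maximalIdeal V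
        rw [hfw, inv_inv, show mat P = p from mat_mkPt _ _]
        exact hwJ _ j.2)
    rw [htop] at hle
    exact RingHom.ker_ne_top _ (top_le_iff.mp hle)
  haveI : Algebra.FiniteType k (CoordGrp.GLb N k) :=
    inferInstanceAs (Algebra.FiniteType k (MvPolynomial (CoordGrp.GLPoly.Idx N) k))
  haveI : Algebra.FiniteType k (CoordGrp.GLn N k) :=
    Algebra.FiniteType.of_surjective (CoordGrp.GLn.mk N k) Ideal.Quotient.mk_surjective
  obtain ⟨c', hc'⟩ := ComodLib.exists_point (k := k) I hI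
  let c : Pt k N k := toConv c'
  -- the weights
  let φ : (Fin N → ℤ) →+ Additive Γˣ :=
    { toFun := fun χ => Additive.ofMul (cx χ)⁻¹
      map_zero' := by simp [cx]
      map_add' := fun a b => by
        rw [← ofMul_mul, ← mul_inv]
        congr 2
        simp only [cx, Pi.add_apply, zpow_add, Finset.prod_mul_distrib] }
  have hφ0 : ∀ χ, 0 ≤ φ χ ↔ cx χ ≤ 1 := fun χ => (one_le_inv' (a := cx χ))
  have hφ1 : ∀ χ, 0 < φ χ ↔ cx χ < 1 := fun χ => (one_lt_inv' (a := cx χ))
  have hXs : ∀ j, cx (Pi.single j 1) = x j := fun j => by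
    simp only [cx]
    rw [Finset.prod_eq_single j (fun l _ hl => by simp [hl]) (by simp)]
    simp
  let W : {j // x j ≤ 1} ⊕ {i // 1 ≤ cx (χ i)} → Fin N → ℤ :=
    Sum.elim (fun j => Pi.single j.1 1) fun i => -χ i.1
  let S : {j // x j < 1} ⊕ {j // 1 < x j} → Fin N → ℤ :=
    Sum.elim (fun j => Pi.single j.1 1) fun j => -Pi.single j.1 1
  have hXneg : ∀ a, cx (-a) = (cx a)⁻¹ := fun a => by simp [cx]
  obtain ⟨r, hrW, hrS⟩ := exists_functional φ W S
    (by rintro (j | i)
        · exact (hφ0 _).mpr ((hXs _).trans_le j.2)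
        · exact (hφ0 _).mpr ((hXneg _).trans_le (inv_le_one'.mpr i.2)))
    (by rintro (j | j)
        · exact (hφ1 _).mpr ((hXs _).trans_lt j.2)
        · exact (hφ1 _).mpr ((hXneg _).trans_lt (inv_lt_one'.mpr ((hXs _).symm ▸ j.2))))
  have hpair : ∀ j, pair r (Pi.single j 1) = r j := fun j => by simp [pair, Pi.single_apply]
  have hr0 : ∀ j, x j ≤ 1 → 0 ≤ r j := fun j hj => (hrW (Sum.inl ⟨j, hj⟩)).trans_eq (hpair j)
  have hr1 : ∀ j, x j < 1 → 0 < r j := fun j hj => (hrS (Sum.inl ⟨j, hj⟩)).trans_eq (hpair j)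
  have hrχ : ∀ i, 1 ≤ cx (χ i) → 0 ≤ pair (-r) (χ i) := fun i hi => by
    have h := hrW (Sum.inr ⟨i, hi⟩)
    simpa [W, pair] using h
  obtain ⟨γ, ⟨Z, hZ⟩, hfix⟩ := exists_attractor π hA hπ g χ hg hwt hgen (-r) c fun i hi =>
    hc' (Ideal.subset_span (Or.inl ⟨⟨i, lt_of_not_ge fun h => absurd (hrχ i h) (not_le.mpr hi)⟩, rfl⟩))
  obtain ⟨g', hg'⟩ := exists_eq_mul_ofSub π hA hπ γ (dT k (-r) * cst k[T;T⁻¹] γ) hfix
  rw [dT_neg] at hg' hZ
  have hlamPt : ofSub π g'⁻¹ = (cst k[T;T⁻¹] γ)⁻¹ * dT k r * cst k[T;T⁻¹] γ := by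
    rw [map_inv, show ofSub π g' = (cst k[T;T⁻¹] γ)⁻¹ * ((dT k r)⁻¹ * cst k[T;T⁻¹] γ) by rw [hg']; group]
    group
  obtain ⟨lam, hlam⟩ := exists_bialgHom π hπ r γ g'⁻¹ hlamPt
  have hrow : rowVec π (lam : A →ₐ[k] k[T;T⁻¹]) w =
      Matrix.vecMul (fun j => algebraMap k k[T;T⁻¹] (c (fw j)) * LaurentPolynomial.T (r j))
        ((mat (Z * cst k[X] ((c * γ⁻¹)⁻¹ * c))).map toL) := by
    have h1 : (cst k[T;T⁻¹] γ)⁻¹ * dT k r * cst k[T;T⁻¹] γ =
        cst k[T;T⁻¹] c⁻¹ * dT k r * push toL (Z * cst k[X] ((c * γ⁻¹)⁻¹ * c)) := by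
      rw [map_mul (push toL), hZ, push_cst]
      simp only [map_mul, map_inv]
      group
    rw [rowVec_eq, hlam, toConv_ofConv, hlamPt, h1, mat_mul, mat_mul, mat_push, mat_dT, mat_push,
      ← Matrix.vecMul_vecMul, ← Matrix.vecMul_vecMul]
    congr 1
    funext j
    rw [Matrix.vecMul_diagonal, hfw]
    congr 1
    simp [Matrix.vecMul, dotProduct, map_sum]
  have hcJ : ∀ j, J j → c (fw j) = 0 := fun j hj => hc' (Ideal.subset_span (Or.inr ⟨⟨j, hj⟩, rfl⟩))
  have hcoord : ∀ (m : ℤ) (l : Fin N), (∀ j, c (fw j) ≠ 0 → m < r j) →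
      (rowVec π (lam : A →ₐ[k] k[T;T⁻¹]) w l).coeff m = 0 := fun m l hm => by
    rw [hrow, Matrix.vecMul, dotProduct, AddMonoidAlgebra.coeff_sum, Finsupp.finsetSum_apply]
    refine Finset.sum_eq_zero fun j _ => ?_
    rw [Matrix.map_apply, mul_assoc, ← Algebra.smul_def, AddMonoidAlgebra.coeff_smul_apply]
    by_cases h : c (fw j) = 0
    · rw [h, zero_smul]
    · rw [ComodLib.coeff_T_mul, (ComodLib.mem_range_toLaurent _).mp ⟨_, rfl⟩ _ (by have := hm j h; omega), smul_zero]
  refine ⟨lam, fun l m hm => hcoord m l fun j hj => ?_, fun hs l => hcoord 0 l fun j hj => ?_, ?_⟩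
  · have hJ : ¬ J j := fun h => hj (hcJ j h)
    exact lt_of_lt_of_le hm (hr0 j (not_lt.mp fun h => hJ (Or.inl h)))
  · have hJ : ¬ J j := fun h => hj (hcJ j h)
    exact hr1 j (lt_of_le_of_ne (not_lt.mp fun h => hJ (Or.inl h)) fun h => hJ (Or.inr ⟨hs, h⟩))
  · rintro ⟨a, ha⟩ htriv
    have hr : r = 0 := by
      have h1 : ofSub π g'⁻¹ = (1 : Pt k N k[T;T⁻¹]) := ofConv_injective (AlgHom.ext fun b => by
        show g'⁻¹ (π b) = _
        rw [show g'⁻¹ (π b) = lam (π b) from (AlgHom.congr_fun hlam (π b)).symm, htriv,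
          CoalgHomClass.counit_comp_apply]
        rfl)
      have h2 : dT k r = 1 := by
        rw [hlamPt, mul_assoc, inv_mul_eq_one] at h1
        simpa using h1.symm
      funext j
      have h3 := congrArg (fun y : Pt k N k[T;T⁻¹] => mat y j j) h2
      simp only [mat_dT, mat_one, Matrix.diagonal_apply_eq, Matrix.one_apply_eq] at h3
      have h4 := congrArg (fun y : k[T;T⁻¹] => y.coeff (r j)) h3
      simp only [← LaurentPolynomial.T_zero, LaurentPolynomial.T_apply, if_true] at h4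
      by_contra hne
      rw [if_neg (fun h => hne h.symm)] at h4
      exact one_ne_zero h4
    have hx : ∀ j, x j = 1 := fun j => by
      rcases lt_trichotomy (x j) 1 with h | h | h
      · have := hr1 j h
        simp [hr] at this
      · exact h
      · have := hrS (Sum.inr ⟨j, h⟩)
        simp [hr, pair] at this
    refine ha ?_
    obtain ⟨b, rfl⟩ := hπ a
    have hdV : ∀ j, d j ∈ V ∧ (d j)⁻¹ ∈ V := fun j => by
      have h : V.valuation (d j) = 1 := congrArg Units.val (hx j)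
      exact ⟨(V.valuation_le_one_iff _).mp h.le, (V.valuation_le_one_iff _).mp (by rw [map_inv₀, h, inv_one])⟩
    let dV : Fin N → Vˣ := fun j => ⟨⟨d j, (hdV j).1⟩, ⟨(d j)⁻¹, (hdV j).2⟩,
      Subtype.ext (mul_inv_cancel₀ (hd j)), Subtype.ext (inv_mul_cancel₀ (hd j))⟩
    have hΨ : Ψ = push incl (P * diagPt dV * Q) := by
      rw [hfac, map_mul, map_mul, push_diagPt]
      rfl
    show Ψ b ∈ V
    rw [hΨ]
    exact SetLike.coe_mem _

end Main

end Groth.Agent.HMGit
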