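import Groth.Agent.HMGit.Points
import Groth.Agent.ComodLib.Orbits
import Groth.Agent.ComodLib.Reductive
import Groth.Agent.ComodLib.StableOrbit
import Groth.Agent.ComodLib.CartierChar0

/-! Functions on `GL_N` invariant under a closed linearly reductive subgroup: they separate the cosets. -/

set_option autoImplicit false
set_option linter.style.haveILetI false
set_option linter.unusedSectionVars false

open WithConv
open scoped TensorProduct

universe u v

namespace Groth.Agent.HMGit

variable {k : Type u} [Field k] {A : Type u} [CommRing A] [HopfAlgebra k A] {N : ℕ}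
variable (π : CoordGrp.GLn N k →ₐc[k] A)

/-- Right translations by the subgroup, as a comodule structure. -/
@[reducible] noncomputable def cB : HopfRep.Comod k A (CoordGrp.GLn N k) :=
  GLin.comodAlong π (HopfRep.Comod.regular k (CoordGrp.GLn N k))

theorem isCoactAlg_cB : @GLin.IsCoactAlg k _ A _ _ (CoordGrp.GLn N k) _ _ (cB π) :=
  GLin.isCoactAlg_comodAlong π _ ⟨Bialgebra.comul_one, Bialgebra.comul_mul⟩

/-- Functions invariant under right translations by the subgroup. -/
noncomputable def inv : Subalgebra k (CoordGrp.GLn N k) :=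
  letI := cB π
  haveI := isCoactAlg_cB π
  GLin.invariants k A (CoordGrp.GLn N k)

theorem mem_inv {f : CoordGrp.GLn N k} :
    f ∈ inv π ↔ TensorProduct.map LinearMap.id (π : CoordGrp.GLn N k →ₗ[k] A)
      (Coalgebra.comul (R := k) f) = f ⊗ₜ[k] (1 : A) := Iff.rfl

variable {C : Type v} [CommRing C] [Algebra k C]

theorem mul_ofSub_apply (y : Pt k N C) (g : WithConv (A →ₐ[k] C)) (f : CoordGrp.GLn N k) :
    (y * ofSub π g) f = Algebra.TensorProduct.lift y.ofConv g.ofConv (fun _ _ => .all ..)
      (TensorProduct.map LinearMap.id (π : CoordGrp.GLn N k →ₗ[k] A) (Coalgebra.comul (R := k) f)) := by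
  rw [AlgHom.convMul_apply]
  generalize Coalgebra.comul (R := k) f = z
  induction z using TensorProduct.induction_on with
  | zero => simp
  | tmul a b => simp [ofSub]
  | add p q hp hq => simp only [map_add, hp, hq]

theorem inv_apply_mul {f : CoordGrp.GLn N k} (hf : f ∈ inv π) (y : Pt k N C)
    (g : WithConv (A →ₐ[k] C)) : (y * ofSub π g) f = y f := by
  rw [mul_ofSub_apply, (mem_inv π).mp hf]
  simp

theorem proj_inv {f : CoordGrp.GLn N k} (hf : f ∈ inv π) :
    π f = algebraMap k A (Coalgebra.counit (R := k) f) := by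
  have h := inv_apply_mul π hf (1 : Pt k N A) (toConv (AlgHom.id k A))
  rw [one_mul] at h
  exact h

/-- The tautological point. -/
noncomputable def idPt : Pt k N (CoordGrp.GLn N k) := toConv (AlgHom.id k _)

/-- Left translation of functions by a rational point. -/
noncomputable def ltr (b : Pt k N k) : CoordGrp.GLn N k →ₐ[k] CoordGrp.GLn N k :=
  (cst (CoordGrp.GLn N k) b * idPt).ofConv

theorem apply_ltr (b : Pt k N k) (y : Pt k N C) (f : CoordGrp.GLn N k) :
    y (ltr b f) = (cst C b * y) f := by
  have h : push y.ofConv (cst (CoordGrp.GLn N k) b * idPt) = cst C b * y := by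
    rw [map_mul, push_cst]
    rfl
  rw [← h]
  rfl

/-- Right translation of functions by a rational point. -/
noncomputable def rtr (b : Pt k N k) : CoordGrp.GLn N k →ₐ[k] CoordGrp.GLn N k :=
  (idPt * cst (CoordGrp.GLn N k) b).ofConv

theorem apply_rtr (b : Pt k N k) (y : Pt k N C) (f : CoordGrp.GLn N k) :
    y (rtr b f) = (y * cst C b) f := by
  have h : push y.ofConv (idPt * cst (CoordGrp.GLn N k) b) = y * cst C b := by
    rw [map_mul, push_cst]
    rfl
  rw [← h]
  rfl

theorem rtr_ofSub_of_inv {f : CoordGrp.GLn N k} (hf : f ∈ inv π) (g : WithConv (A →ₐ[k] k)) :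
    rtr (ofSub π g) f = f :=
  inv_apply_mul π hf idPt (toConv ((Algebra.ofId k _).comp g.ofConv))

section AlgClosed

variable [IsAlgClosed k] [CharZero k] [Algebra.FiniteType k A]

theorem eq_of_forall_pt {f g : CoordGrp.GLn N k} (h : ∀ y : Pt k N k, y f = y g) : f = g := by
  haveI : Algebra.FiniteType k (CoordGrp.GLb N k) :=
    inferInstanceAs (Algebra.FiniteType k (MvPolynomial (CoordGrp.GLPoly.Idx N) k))
  haveI : Algebra.FiniteType k (CoordGrp.GLn N k) :=
    Algebra.FiniteType.of_surjective (CoordGrp.GLn.mk N k) Ideal.Quotient.mk_surjective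
  haveI : _root_.IsReduced (CoordGrp.GLn N k) := ComodLib.isReduced_of_charZero' (k := k)
  by_contra hne
  obtain ⟨y, hy⟩ := ComodLib.exists_point_ne_zero (k := k) (a := f - g)
    fun hn => hne (sub_eq_zero.mp hn.eq_zero)
  exact hy (by rw [map_sub, sub_eq_zero]; exact h (toConv y))

theorem mem_inv_of_points {f : CoordGrp.GLn N k}
    (h : ∀ (y : Pt k N k) (g : WithConv (A →ₐ[k] k)), (y * ofSub π g) f = y f) : f ∈ inv π := by
  haveI : _root_.IsReduced A := ComodLib.isReduced_of_charZero' (k := k)
  refine (mem_inv π).mpr (sub_eq_zero.mp (ComodLib.eq_zero_of_forall_pt fun g => ?_))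
  rw [map_sub, ComodLib.slice_tmul, show g.toLinearMap (1 : A) = 1 from map_one g, one_smul, sub_eq_zero]
  refine eq_of_forall_pt fun y => ?_
  refine Eq.trans ?_ (h y (toConv g))
  rw [mul_ofSub_apply]
  generalize TensorProduct.map LinearMap.id (π : CoordGrp.GLn N k →ₗ[k] A) (Coalgebra.comul (R := k) f) = z
  induction z using TensorProduct.induction_on with
  | zero => simp
  | tmul a b => simp [mul_comm]
  | add p q hp hq => simp only [map_add, hp, hq]

theorem ltr_mem_inv (b : Pt k N k) {f : CoordGrp.GLn N k} (hf : f ∈ inv π) : ltr b f ∈ inv π :=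
  mem_inv_of_points π fun y g => by rw [apply_ltr, apply_ltr, ← mul_assoc, inv_apply_mul π hf]

end AlgClosed

/-- The ideal of the invariant functions vanishing at the origin. -/
noncomputable def nIdeal : Ideal (CoordGrp.GLn N k) :=
  Ideal.span {f | f ∈ inv π ∧ Coalgebra.counit (R := k) f = 0}

theorem nIdeal_le_ker : nIdeal π ≤ RingHom.ker (π : CoordGrp.GLn N k →ₐ[k] A) :=
  Ideal.span_le.mpr fun f hf => by
    show π f = 0
    rw [proj_inv π hf.1, hf.2, map_zero]

theorem exists_section (hA : HopfRep.IsLinearlyReductive k A) (hπ : Function.Surjective π) :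
    letI := cB π
    ∃ β : A →ₗ[k] CoordGrp.GLn N k, Hoch.IsComodHom A β ∧ ∀ a, π (β a) = a := by
  letI := cB π
  let p : CoordGrp.GLn N k →ₗ[k] A := (π : CoordGrp.GLn N k →ₗ[k] A)
  have hcom : Hoch.IsComodHom A p := by
    refine LinearMap.ext fun f => ?_
    show Coalgebra.comul (R := k) (π f) = p.rTensor A (TensorProduct.map LinearMap.id p (Coalgebra.comul f))
    rw [← CoalgHomClass.map_comp_comul_apply]
    generalize Coalgebra.comul (R := k) f = z
    induction z using TensorProduct.induction_on with
    | zero => simp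
    | tmul a b => simp [p]
    | add q r hq hr => simp only [map_add, hq, hr]
  obtain ⟨W, hW, hc⟩ := ComodLib.isSemisimpleComod_of_isLinearlyReductive hA _
    (ComodLib.isSubcomod_ker (C := A) hcom)
  let e : W ≃ₗ[k] A := LinearEquiv.ofBijective (p ∘ₗ W.subtype) ⟨fun x y hxy => Subtype.ext
    (sub_eq_zero.mp ((Submodule.disjoint_def.mp hc.disjoint) _
      (by rw [LinearMap.mem_ker, map_sub, sub_eq_zero]; exact hxy) (W.sub_mem x.2 y.2))),
    fun a => by
      obtain ⟨f, rfl⟩ := hπ a
      obtain ⟨q, hq, w, hw, rfl⟩ := Submodule.mem_sup.mp (hc.codisjoint.eq_top ▸ Submodule.mem_top (x := f))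
      exact ⟨⟨w, hw⟩, by show p w = p (q + w); rw [map_add, LinearMap.mem_ker.mp hq, zero_add]⟩⟩
  refine ⟨W.subtype ∘ₗ e.symm.toLinearMap, ComodLib.isComodHom_iff_actF.mpr fun φ a => ?_,
    fun a => e.apply_symm_apply a⟩
  have h1 : ComodLib.actF φ ((e.symm a : W) : CoordGrp.GLn N k) ∈ W :=
    ComodLib.subcomod_actF_mem hW φ (e.symm a).2
  have h2 : e.symm (ComodLib.actF φ a) = ⟨_, h1⟩ := e.injective (by
    rw [e.apply_symm_apply]
    show _ = p (ComodLib.actF φ ((e.symm a : W) : CoordGrp.GLn N k))
    rw [ComodLib.comodHom_actF hcom]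
    exact congrArg (ComodLib.actF φ) (e.apply_symm_apply a).symm)
  show ((e.symm (ComodLib.actF φ a) : W) : CoordGrp.GLn N k) = _
  rw [h2]
  rfl

/-- The functions vanishing on the subgroup are generated by invariant ones. -/
theorem ker_le_nIdeal (hA : HopfRep.IsLinearlyReductive k A) (hπ : Function.Surjective π) :
    RingHom.ker (π : CoordGrp.GLn N k →ₐ[k] A) ≤ nIdeal π := by
  classical
  letI := cB π
  haveI := isCoactAlg_cB π
  intro a ha
  obtain ⟨β, hβ, hπβ⟩ := exists_section π hA hπ
  obtain ⟨U, hUf, haU, hU⟩ := ComodLib.exists_finite_subcomod_mem (C := A) (k := k) a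
  letI : HopfRep.Comod k A U := ComodSub.Comod.restr _ U hU
  have hi : Hoch.IsComodHom A U.subtype := ComodSub.isComodHom_subtype _ U hU
  obtain ⟨d, ⟨bas⟩⟩ : ∃ d, Nonempty (Module.Basis (Fin d) k U) := ⟨_, ⟨Module.finBasis k U⟩⟩
  let m : Matrix (Fin d) (Fin d) A := Matrix.of fun i j => ComodLib.matrixOf bas i j
  have hm : ComodLib.IsComodMatrix k fun i j => m i j := ComodLib.isComodMatrix_matrixOf bas
  let S : Matrix (Fin d) (Fin d) A := m.map (HopfAlgebra.antipodeAlgHom k A)
  have hmS : ∀ l q, ∑ r, m l r * S r q = if l = q then 1 else 0 := fun l q => by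
    have h := HopfAlgebra.mul_antipode_lTensor_comul_apply (R := k) (m l q)
    rw [hm.comul, hm.counit, map_sum, map_sum] at h
    rw [apply_ite (algebraMap k A), map_one, map_zero] at h
    simpa [S] using h
  have hSm : m * S = 1 := Matrix.ext fun l q => by rw [Matrix.mul_apply, hmS, Matrix.one_apply]
  have hεm : ∀ i j, Coalgebra.counit (R := k) (m i j) = if i = j then 1 else 0 := hm.counit
  have hεS : ∀ i j, Coalgebra.counit (R := k) (S i j) = if i = j then 1 else 0 := fun i j => by
    show Coalgebra.counit (R := k) (HopfAlgebra.antipode k (m i j)) = _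
    rw [HopfAlgebra.counit_antipode, hεm]
  have hcomulS : ∀ i j, Coalgebra.comul (R := k) (S i j) = ∑ l, S l j ⊗ₜ[k] S i l := by
    let Δ := Bialgebra.comulAlgHom k A
    let iL : A →ₐ[k] A ⊗[k] A := Algebra.TensorProduct.includeLeft
    let iR : A →ₐ[k] A ⊗[k] A := Algebra.TensorProduct.includeRight
    have h1 : m.map Δ = m.map iL * m.map iR := Matrix.ext fun i j => by
      show Coalgebra.comul (R := k) (m i j) = _
      rw [hm.comul, Matrix.mul_apply]
      simp [iL, iR]
    have h2 : S.map Δ = S.map iR * S.map iL := by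
      refine (left_inv_eq_right_inv (a := m.map Δ) ?_ ?_)
      · rw [← Matrix.map_mul, (mul_eq_one_comm.mp hSm), Matrix.map_one _ (map_zero _) (map_one _)]
      · rw [h1, mul_assoc, ← mul_assoc (m.map iR), ← Matrix.map_mul (f := iR), hSm,
          Matrix.map_one _ (map_zero _) (map_one _), one_mul, ← Matrix.map_mul, hSm,
          Matrix.map_one _ (map_zero _) (map_one _)]
    intro i j
    have := congrFun (congrFun h2 i) j
    rw [Matrix.map_apply, Matrix.mul_apply] at this
    simpa [iL, iR, Δ] using this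
  let b : Fin d → CoordGrp.GLn N k := fun j => (bas j : CoordGrp.GLn N k)
  let P : Matrix (Fin d) (Fin d) (CoordGrp.GLn N k) := m.map β
  let Q : Matrix (Fin d) (Fin d) (CoordGrp.GLn N k) := S.map β
  have hcoβ : ∀ x : A, HopfRep.Comod.coact (k := k) (A := A) (β x) =
      β.rTensor A (Coalgebra.comul (R := k) x) := fun x => LinearMap.congr_fun hβ x
  have hcP : ∀ i r, HopfRep.Comod.coact (k := k) (A := A) (P i r) = ∑ l, P i l ⊗ₜ[k] m l r := fun i r => by
    show HopfRep.Comod.coact (k := k) (A := A) (β (m i r)) = _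
    rw [hcoβ, hm.comul, map_sum]
    rfl
  have hcQ : ∀ r j, HopfRep.Comod.coact (k := k) (A := A) (Q r j) = ∑ q, Q q j ⊗ₜ[k] S r q := fun r j => by
    show HopfRep.Comod.coact (k := k) (A := A) (β (S r j)) = _
    rw [hcoβ, hcomulS, map_sum]
    rfl
  have hcb : ∀ j, HopfRep.Comod.coact (k := k) (A := A) (b j) = ∑ i, b i ⊗ₜ[k] m i j := fun j => by
    have := LinearMap.congr_fun hi (bas j)
    simp only [LinearMap.comp_apply, ComodLib.coact_matrixOf bas, map_sum, LinearMap.rTensor_tmul] at this
    exact this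
  have hcounitπ : ∀ f, Coalgebra.counit (R := k) (π f) = Coalgebra.counit (R := k) f := fun f =>
    CoalgHomClass.counit_comp_apply π f
  have hεP : ∀ i j, Coalgebra.counit (R := k) (P i j) = if i = j then 1 else 0 := fun i j => by
    rw [← hcounitπ]
    show Coalgebra.counit (R := k) (π (β (m i j))) = _
    rw [hπβ, hεm]
  have hεQ : ∀ i j, Coalgebra.counit (R := k) (Q i j) = if i = j then 1 else 0 := fun i j => by
    rw [← hcounitπ]
    show Coalgebra.counit (R := k) (π (β (S i j))) = _
    rw [hπβ, hεS]
  -- invariant combinations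
  have hfix : ∀ (row : Fin d → CoordGrp.GLn N k) (j : Fin d),
      (∀ r, HopfRep.Comod.coact (k := k) (A := A) (row r) = ∑ l, row l ⊗ₜ[k] m l r) →
      ∑ r, row r * Q r j ∈ inv π := by
    intro row j hrow
    refine (mem_inv π).mpr ?_
    show HopfRep.Comod.coact (k := k) (A := A) (V := CoordGrp.GLn N k) _ = _
    calc HopfRep.Comod.coact (k := k) (A := A) (∑ r, row r * Q r j)
        = ∑ r, ∑ l, ∑ q, (row l * Q q j) ⊗ₜ[k] (m l r * S r q) := by
          rw [map_sum]
          refine Finset.sum_congr rfl fun r _ => ?_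
          rw [GLin.IsCoactAlg.coact_mul, hrow, hcQ, Finset.sum_mul]
          refine Finset.sum_congr rfl fun l _ => ?_
          rw [Finset.mul_sum]
          simp only [Algebra.TensorProduct.tmul_mul_tmul]
      _ = ∑ l, ∑ q, ∑ r, (row l * Q q j) ⊗ₜ[k] (m l r * S r q) := by
          rw [Finset.sum_comm]
          exact Finset.sum_congr rfl fun l _ => Finset.sum_comm
      _ = (∑ r, row r * Q r j) ⊗ₜ[k] (1 : A) := by
          rw [TensorProduct.sum_tmul]
          refine Finset.sum_congr rfl fun l _ => ?_
          simp only [← TensorProduct.tmul_sum, hmS]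
          rw [Finset.sum_eq_single l (fun q _ hq => by simp [Ne.symm hq]) (by simp), if_pos rfl]
  let q := Ideal.Quotient.mk (nIdeal π)
  have hq : ∀ f ∈ inv π, q f = q (algebraMap k _ (Coalgebra.counit (R := k) f)) := fun f hf =>
    Ideal.Quotient.eq.mpr (Ideal.subset_span ⟨(inv π).sub_mem hf ((inv π).algebraMap_mem _), by
      rw [map_sub, Algebra.algebraMap_eq_smul_one (Coalgebra.counit (R := k) f), map_smul,
        Bialgebra.counit_one, smul_eq_mul, mul_one, sub_self]⟩)
  have hPQ : P.map q * Q.map q = 1 := Matrix.ext fun i j => by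
    have h := hq _ (hfix (fun r => P i r) j (hcP i))
    rw [map_sum, map_sum] at h
    simp only [map_mul, Bialgebra.counit_mul, hεP, hεQ] at h
    rw [Matrix.mul_apply, Matrix.one_apply]
    simp only [Matrix.map_apply]
    rw [h]
    by_cases hij : i = j <;> simp [hij]
  have hQP : Q.map q * P.map q = 1 := mul_eq_one_comm.mp hPQ
  have key : ∀ j, q (b j) = q (β (π (b j))) := fun j => by
    have he : ∀ i, (Matrix.vecMul (fun r => q (b r)) (Q.map q)) i =
        q (algebraMap k _ (Coalgebra.counit (R := k) (b i))) := fun i => by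
      have h := hq _ (hfix b i hcb)
      rw [map_sum, map_sum] at h
      simp only [map_mul, Bialgebra.counit_mul, hεQ] at h
      rw [Matrix.vecMul, dotProduct]
      simp only [Matrix.map_apply]
      rw [h]
      congr 1
      simp
    have hπb : π (b j) = ∑ i, Coalgebra.counit (R := k) (b i) • m i j := by
      have hcom : Coalgebra.comul (R := k) (π (b j)) = ∑ i, π (b i) ⊗ₜ[k] m i j := by
        have h := congrArg ((π : CoordGrp.GLn N k →ₗ[k] A).rTensor A) (hcb j)
        rw [map_sum] at h
        refine Eq.trans ?_ (h.trans (Finset.sum_congr rfl fun i _ => LinearMap.rTensor_tmul ..))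
        show _ = (π : CoordGrp.GLn N k →ₗ[k] A).rTensor A
          (TensorProduct.map LinearMap.id (π : CoordGrp.GLn N k →ₗ[k] A) (Coalgebra.comul (b j)))
        rw [← CoalgHomClass.map_comp_comul_apply]
        generalize Coalgebra.comul (R := k) (b j) = z
        induction z using TensorProduct.induction_on with
        | zero => simp
        | tmul x y => simp
        | add p r hp hr => simp only [map_add, hp, hr]
      have h := congrArg (fun z => TensorProduct.lid k A ((Coalgebra.counit (R := k)).rTensor A z)) hcom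
      simp only [Coalgebra.rTensor_counit_comul, TensorProduct.lid_tmul, one_smul, map_sum,
        LinearMap.rTensor_tmul, hcounitπ] at h
      exact h
    calc q (b j) = Matrix.vecMul (fun r => q (b r)) (Q.map q * P.map q) j := by
          rw [hQP, Matrix.vecMul_one]
      _ = ∑ i, q (algebraMap k _ (Coalgebra.counit (R := k) (b i))) * q (β (m i j)) := by
          rw [← Matrix.vecMul_vecMul, Matrix.vecMul, dotProduct]
          simp only [he]
          rfl
      _ = q (β (π (b j))) := by
          rw [hπb, map_sum, map_sum]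
          exact Finset.sum_congr rfl fun i _ => by rw [map_smul, ← map_mul, ← Algebra.smul_def]
  have ha' : π a = 0 := ha
  refine Ideal.Quotient.eq_zero_iff_mem.mp ?_
  have hrepr : a = ∑ j, (bas.repr ⟨a, haU⟩ j) • b j := by
    have h := congrArg Subtype.val (bas.sum_repr ⟨a, haU⟩)
    rw [Submodule.coe_sum] at h
    exact h.symm
  let qL := (Ideal.Quotient.mkₐ k (nIdeal π)).toLinearMap
  have hlin : qL a = qL (β (π a)) := by
    rw [hrepr, map_sum, map_sum, map_sum, map_sum]
    refine Finset.sum_congr rfl fun j _ => ?_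
    rw [map_smul, map_smul, map_smul, map_smul]
    exact congrArg _ (key j)
  show qL a = 0
  rw [hlin, ha', map_zero, map_zero]

/-- A point at which every invariant function takes its value at the origin lies in the subgroup. -/
theorem exists_ofSub_eq (hA : HopfRep.IsLinearlyReductive k A) (hπ : Function.Surjective π) (z : Pt k N C)
    (h : ∀ f ∈ inv π, z f = algebraMap k C (Coalgebra.counit (R := k) f)) :
    ∃ g : WithConv (A →ₐ[k] C), ofSub π g = z := by
  have hker : RingHom.ker (π : CoordGrp.GLn N k →ₐ[k] A) ≤ RingHom.ker z.ofConv :=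
    (ker_le_nIdeal π hA hπ).trans (Ideal.span_le.mpr fun f hf => by
      show z f = 0
      rw [h f hf.1, hf.2, map_zero])
  refine ⟨toConv (AlgHom.liftOfSurjective (π : CoordGrp.GLn N k →ₐ[k] A) hπ z.ofConv hker), ?_⟩
  exact ofConv_injective (AlgHom.ext fun f => AlgHom.liftOfSurjective_apply (π : CoordGrp.GLn N k →ₐ[k] A) hπ z.ofConv hker f)

theorem exists_eq_mul_ofSub [IsAlgClosed k] [CharZero k] [Algebra.FiniteType k A]
    (hA : HopfRep.IsLinearlyReductive k A) (hπ : Function.Surjective π)
    (b : Pt k N k) (y : Pt k N C) (h : ∀ f ∈ inv π, y f = algebraMap k C (b f)) :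
    ∃ g : WithConv (A →ₐ[k] C), y = cst C b * ofSub π g := by
  obtain ⟨g, hg⟩ := exists_ofSub_eq π hA hπ (cst C b⁻¹ * y) fun f hf => by
    rw [← apply_ltr, h _ (ltr_mem_inv π b⁻¹ hf), apply_ltr]
    show algebraMap k C ((b⁻¹ * b) f) = _
    rw [inv_mul_cancel]
    rfl
  exact ⟨g, by rw [hg, map_inv, mul_inv_cancel_left]⟩

/-- A rational point of the quotient lifts to a rational point of the group. -/
theorem exists_lift [IsAlgClosed k] [Algebra.FiniteType k A] (hA : HopfRep.IsLinearlyReductive k A)
    (q : inv π →ₐ[k] k) : ∃ b : Pt k N k, ∀ f : inv π, b (f : CoordGrp.GLn N k) = q f := by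
  letI := cB π
  haveI := isCoactAlg_cB π
  haveI : Algebra.FiniteType k (CoordGrp.GLb N k) :=
    inferInstanceAs (Algebra.FiniteType k (MvPolynomial (CoordGrp.GLPoly.Idx N) k))
  haveI : Algebra.FiniteType k (CoordGrp.GLn N k) :=
    Algebra.FiniteType.of_surjective (CoordGrp.GLn.mk N k) Ideal.Quotient.mk_surjective
  obtain ⟨α, hα, h1⟩ := ComodLib.exists_integral_of_isLinearlyReductive hA
  let q' : GLin.invariants k A (CoordGrp.GLn N k) →ₐ[k] k := q
  let I : Ideal (GLin.invariants k A (CoordGrp.GLn N k)) := RingHom.ker q'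
  have hne : Ideal.map (GLin.invariants k A (CoordGrp.GLn N k)).val.toRingHom I ≠ ⊤ := fun htop => by
    have := ComodLib.comap_map_val hα h1 I
    rw [htop, Ideal.comap_top] at this
    exact RingHom.ker_ne_top q' this.symm
  obtain ⟨b, hb⟩ := ComodLib.exists_point (k := k) _ hne
  refine ⟨toConv b, fun f => ?_⟩
  have h2 : b.comp (GLin.invariants k A (CoordGrp.GLn N k)).val = q' :=
    (ComodLib.eq_of_ker_le (x := q') fun x hx => hb (Ideal.mem_map_of_mem _ hx)).symm
  exact AlgHom.congr_fun h2 f

end Groth.Agent.HMGit
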