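import Groth.Agent.HMGit.Invariants
import Groth.Agent.ComodLib.ReducedSmooth
import Groth.Agent.ComodLib.Invariants
import Groth.Agent.ComodLib.Integral
import Mathlib.Algebra.TrivSqZeroExt.Basic

/-! Tangent vectors of `GL_N` and invariant functions that are singular at a point. -/

set_option autoImplicit false
set_option linter.style.haveILetI false
set_option linter.unusedSectionVars false

open WithConv
open TrivSqZeroExt (inl inr fst snd)

universe u v

namespace Groth.Agent.HMGit

variable {k : Type u} [Field k] {A : Type u} [CommRing A] [HopfAlgebra k A] {N : ℕ}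

section univ

variable (k N) in
/-- The tangent vectors at the origin. -/
abbrev TG := TrivSqZeroExt k (Fin N × Fin N → k)

theorem isUnit_one_add {M : Type v} [AddCommGroup M] [Module k M] [Module kᵐᵒᵖ M] [IsCentralScalar k M]
    (X : Fin N → Fin N → M) :
    IsUnit ((1 : Matrix (Fin N) (Fin N) (TrivSqZeroExt k M)) + Matrix.of fun p q => inr (X p q)) := by
  let R : Matrix (Fin N) (Fin N) (TrivSqZeroExt k M) := Matrix.of fun p q => inr (X p q)
  have h : R * R = 0 := Matrix.ext fun p q => by
    rw [Matrix.mul_apply]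
    exact Finset.sum_eq_zero fun r _ => TrivSqZeroExt.inr_mul_inr k _ _
  have h1 : (1 + R) * (1 - R) = 1 - R * R := by noncomm_ring
  have h2 : (1 - R) * (1 + R) = 1 - R * R := by noncomm_ring
  rw [h, sub_zero] at h1 h2
  exact ⟨⟨1 + R, 1 - R, h1, h2⟩, rfl⟩

/-- The point with matrix `1 + X`. -/
noncomputable def tanPt {M : Type v} [AddCommGroup M] [Module k M] [Module kᵐᵒᵖ M] [IsCentralScalar k M]
    (X : Fin N → Fin N → M) : Pt k N (TrivSqZeroExt k M) :=
  mkPt _ (isUnit_one_add X)

theorem mat_tanPt {M : Type v} [AddCommGroup M] [Module k M] [Module kᵐᵒᵖ M] [IsCentralScalar k M]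
    (X : Fin N → Fin N → M) :
    mat (tanPt (k := k) X) =
      (1 : Matrix (Fin N) (Fin N) (TrivSqZeroExt k M)) + Matrix.of fun p q => inr (X p q) :=
  mat_mkPt _ _

variable (k N) in
/-- The universal tangent vector at the origin. -/
noncomputable def univTan : Pt k N (TG k N) := tanPt fun p q => Pi.single (p, q) 1

theorem push_tanPt {M : Type v} [AddCommGroup M] [Module k M] [Module kᵐᵒᵖ M] [IsCentralScalar k M]
    {M' : Type v} [AddCommGroup M'] [Module k M'] [Module kᵐᵒᵖ M'] [IsCentralScalar k M']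
    (ℓ : M →ₗ[k] M') (X : Fin N → Fin N → M) :
    push (TrivSqZeroExt.map ℓ) (tanPt X) = tanPt fun p q => ℓ (X p q) := by
  refine pt_ext (Matrix.ext fun p q => ?_)
  rw [mat_push, mat_tanPt, mat_tanPt, Matrix.map_apply, Matrix.add_apply, Matrix.add_apply, map_add]
  simp [Matrix.one_apply, apply_ite (TrivSqZeroExt.map ℓ)]

theorem fst_tanPt {M : Type v} [AddCommGroup M] [Module k M] [Module kᵐᵒᵖ M] [IsCentralScalar k M]
    (X : Fin N → Fin N → M) : push (TrivSqZeroExt.fstHom k k M) (tanPt X) = 1 := by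
  refine pt_ext (Matrix.ext fun p q => ?_)
  rw [mat_push, mat_tanPt, mat_one, Matrix.map_apply, Matrix.add_apply]
  simp [Matrix.one_apply, apply_ite]

/-- A tangent vector as a functional. -/
noncomputable def tanFun (X : Matrix (Fin N) (Fin N) k) : (Fin N × Fin N → k) →ₗ[k] k :=
  ∑ pq : Fin N × Fin N, X pq.1 pq.2 • LinearMap.proj pq

theorem tanFun_apply (X : Matrix (Fin N) (Fin N) k) (v : Fin N × Fin N → k) :
    tanFun X v = ∑ pq : Fin N × Fin N, X pq.1 pq.2 * v pq := by simp [tanFun]

theorem push_univTan (X : Matrix (Fin N) (Fin N) k) :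
    push (TrivSqZeroExt.map (tanFun X)) (univTan k N) = tanPt fun p q => X p q := by
  rw [univTan, push_tanPt]
  congr 1
  refine funext fun p => funext fun q => ?_
  rw [tanFun_apply, Finset.sum_eq_single (p, q) (fun r _ hr => by simp [hr]) (by simp)]
  simp

/-- A tangent point at the origin is the one of its matrix. -/
theorem eq_tanPt (θ : Pt k N (DualNumber k)) (h : push (TrivSqZeroExt.fstHom k k k) θ = 1) :
    θ = tanPt fun p q => snd (mat θ p q) := by
  refine pt_ext (Matrix.ext fun p q => ?_)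
  have h1 : fst (mat θ p q) = (1 : Matrix (Fin N) (Fin N) k) p q := by
    rw [← mat_one (k := k) (C := k), ← h, mat_push]
    rfl
  rw [mat_tanPt]
  refine TrivSqZeroExt.ext ?_ ?_ <;> simp [Matrix.one_apply, apply_ite, h1]

end univ

/-- The gradient of a function at a point, for left translations by tangent vectors. -/
noncomputable def grad (b : Pt k N k) (f : CoordGrp.GLn N k) : Fin N × Fin N → k :=
  snd ((univTan k N * cst (TG k N) b) f)

/-- The derivative along a tangent vector. -/
theorem tanFun_grad (X : Matrix (Fin N) (Fin N) k) (b : Pt k N k) (f : CoordGrp.GLn N k) :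
    tanFun X (grad b f) = snd ((tanPt (fun p q => X p q) * cst (DualNumber k) b : Pt k N (DualNumber k)) f) := by
  have h : push (TrivSqZeroExt.map (tanFun X)) (univTan k N * cst (TG k N) b) =
      tanPt (fun p q => X p q) * cst (DualNumber k) b := by
    rw [map_mul, push_univTan, push_cst]
  rw [← h, push_apply, TrivSqZeroExt.snd_map]
  rfl

theorem grad_add (b : Pt k N k) (f g : CoordGrp.GLn N k) : grad b (f + g) = grad b f + grad b g := by
  simp [grad]

theorem grad_smul (b : Pt k N k) (c : k) (f : CoordGrp.GLn N k) : grad b (c • f) = c • grad b f := by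
  simp [grad]

variable (π : CoordGrp.GLn N k →ₐc[k] A)

/-- The invariant functions vanishing at a point. -/
noncomputable def vanish (b : Pt k N k) : Ideal (inv π) := RingHom.ker (b.ofConv.comp (inv π).val)

theorem mem_vanish {b : Pt k N k} {f : inv π} : f ∈ vanish π b ↔ b (f : CoordGrp.GLn N k) = 0 := Iff.rfl

variable [IsAlgClosed k] [CharZero k] [Algebra.FiniteType k A]

theorem formallySmooth_sub : Algebra.FormallySmooth k A := by
  haveI : _root_.IsReduced A := ComodLib.isReduced_of_charZero' (k := k)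
  refine ComodLib.RedSm.formallySmooth_of_transitive fun g h => ?_
  let c : WithConv (A →ₐ[k] k) := toConv h * (toConv g)⁻¹
  have h1 : ∀ a : WithConv (A →ₐ[k] k),
      (ComodLib.translatePt (a⁻¹).ofConv).comp (ComodLib.translatePt a.ofConv) = AlgHom.id k A := fun a => by
    rw [ComodLib.translatePt_comp, show toConv a.ofConv * toConv (a⁻¹).ofConv = 1 from mul_inv_cancel a]
    exact ComodLib.translatePt_counit
  refine ⟨AlgEquiv.ofAlgHom (ComodLib.translatePt c.ofConv) (ComodLib.translatePt (c⁻¹).ofConv)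
    (by simpa using h1 c⁻¹) (h1 c), ?_⟩
  have h2 := ComodLib.convMul_ofConv c (toConv g)
  rw [inv_mul_cancel_right] at h2
  exact h2

/-- An invariant function singular at the origin lies in the square of the ideal of the origin. -/
theorem mem_sq_of_tangent_one (hA : HopfRep.IsLinearlyReductive k A) (hπ : Function.Surjective π)
    (f : inv π) (hf : (1 : Pt k N k) (f : CoordGrp.GLn N k) = 0)
    (h : ∀ θ : Pt k N (DualNumber k), push (TrivSqZeroExt.fstHom k k k) θ = 1 →
      snd (θ (f : CoordGrp.GLn N k)) = 0) :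
    f ∈ vanish π 1 ^ 2 := by
  classical
  by_contra hfn
  haveI : Algebra.FormallySmooth k A := formallySmooth_sub
  let B := CoordGrp.GLn N k
  let ε : B →ₐ[k] k := (1 : Pt k N k).ofConv
  have hε : ∀ x : B, ε x = Coalgebra.counit (R := k) x := fun x => rfl
  let n := vanish π 1
  -- a functional separating `f`
  obtain ⟨η, hηf, hη⟩ : ∃ η : inv π →ₗ[k] k, η f = 1 ∧ ∀ x ∈ n ^ 2, η x = 0 := by
    obtain ⟨η, h1, h2⟩ := Submodule.exists_dual_map_eq_bot_of_notMem
      (p := (n ^ 2).restrictScalars k) hfn inferInstance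
    refine ⟨(η f)⁻¹ • η, by simp [h1], fun x hx => ?_⟩
    have : η x ∈ Submodule.map η ((n ^ 2).restrictScalars k) := Submodule.mem_map_of_mem hx
    rw [h2, Submodule.mem_bot] at this
    simp [this]
  let n' : Ideal (inv π) :=
    { carrier := {x | x ∈ n ∧ η x = 0}
      add_mem' := fun {a b} ha hb => ⟨n.add_mem ha.1 hb.1, by rw [map_add, ha.2, hb.2, add_zero]⟩
      zero_mem' := ⟨n.zero_mem, map_zero η⟩
      smul_mem' := fun a x hx => ⟨n.smul_mem a hx.1, by
        have h1 : a • x = (ε a) • x + (a - algebraMap k _ (ε a)) * x := by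
          rw [sub_mul, ← Algebra.smul_def, smul_eq_mul]
          abel
        have h2 : (a - algebraMap k _ (ε a)) * x ∈ n ^ 2 := by
          rw [pow_two]
          refine Ideal.mul_mem_mul ?_ hx.1
          show ε ((a : B) - algebraMap k B (ε a)) = 0
          rw [map_sub, AlgHom.commutes, Algebra.algebraMap_self_apply, sub_self]
        rw [h1, map_add, map_smul, hx.2, smul_zero, zero_add, hη _ h2]⟩ }
  let L : Ideal B := Ideal.map (inv π).val.toRingHom n'
  have hfL : (f : B) ∉ L := fun hL => by
    letI := cB π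
    haveI := isCoactAlg_cB π
    obtain ⟨α, hα, h1⟩ := ComodLib.exists_integral_of_isLinearlyReductive hA
    have h2 := ComodLib.comap_map_val (R := B) hα h1 (n' : Ideal (GLin.invariants k A B))
    have h3 : f ∈ n' := h2.le hL
    exact one_ne_zero (hηf.symm.trans h3.2)
  let K : Ideal B := RingHom.ker (π : B →ₐ[k] A)
  let M : Ideal B := L ⊔ Ideal.span {(f : B)}
  have hL_K : L ≤ K := Ideal.map_le_iff_le_comap.mpr fun x hx => by
    show π (x : B) = 0
    rw [proj_inv π x.2, show Coalgebra.counit (R := k) (x : B) = 0 from hx.1, map_zero]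
  have hKM : K ≤ M := (ker_le_nIdeal π hA hπ).trans (Ideal.span_le.mpr fun x hx => by
    let x' : inv π := ⟨x, hx.1⟩
    have hx' : x' - (η x') • f ∈ n' := ⟨n.sub_mem hx.2 (Submodule.smul_of_tower_mem _ _ hf), by
      rw [map_sub, map_smul, hηf, smul_eq_mul, mul_one, sub_self]⟩
    have h1 : (x : B) = (x' - (η x') • f : inv π).1 + (η x') • (f : B) := by simp [x']
    rw [SetLike.mem_coe, h1]
    exact Ideal.add_mem _ (Ideal.mem_sup_left (Ideal.mem_map_of_mem _ hx'))
      (Submodule.smul_of_tower_mem _ _ (Ideal.mem_sup_right (Ideal.mem_span_singleton_self _))))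
  have hKK : K * K ≤ L := by
    refine (Ideal.mul_mono (ker_le_nIdeal π hA hπ) (ker_le_nIdeal π hA hπ)).trans ?_
    rw [nIdeal, Ideal.span_mul_span, Ideal.span_le]
    rintro z ⟨x, hx, y, hy, rfl⟩
    have hxy : (⟨x, hx.1⟩ * ⟨y, hy.1⟩ : inv π) ∈ n' :=
      ⟨n.mul_mem_right _ hx.2, hη _ (by rw [pow_two]; exact Ideal.mul_mem_mul hx.2 hy.2)⟩
    exact Ideal.mem_map_of_mem (inv π).val.toRingHom hxy
  have hfK : (f : B) ∈ K := by
    show π (f : B) = 0
    rw [proj_inv π f.2, ← hε, show ε (f : B) = 0 from hf, map_zero]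
  -- the lifting
  let q : B ⧸ L →ₐ[k] A := Ideal.Quotient.liftₐ L (π : B →ₐ[k] A) fun x hx => hL_K hx
  have hq : ∀ x, q (Ideal.Quotient.mkₐ k L x) = π x := fun x => rfl
  have hqs : Function.Surjective q := fun a => by
    obtain ⟨x, rfl⟩ := hπ a
    exact ⟨Ideal.Quotient.mkₐ k L x, hq x⟩
  have hqn : IsNilpotent (RingHom.ker (q : B ⧸ L →+* A)) := by
    refine ⟨2, ?_⟩
    rw [pow_two, Ideal.zero_eq_bot, eq_bot_iff, Ideal.mul_le]
    intro a ha c hc
    obtain ⟨x, rfl⟩ := Ideal.Quotient.mk_surjective a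
    obtain ⟨y, rfl⟩ := Ideal.Quotient.mk_surjective c
    rw [Submodule.mem_bot, ← map_mul, Ideal.Quotient.eq_zero_iff_mem]
    exact hKK (Ideal.mul_mem_mul ha hc)
  let σ : A →ₐ[k] B ⧸ L := Algebra.FormallySmooth.liftOfSurjective (AlgHom.id k A) q hqs hqn
  have hσ : ∀ a, q (σ a) = a := fun a => Algebra.FormallySmooth.liftOfSurjective_apply _ q hqs hqn a
  let mk := Ideal.Quotient.mkₐ k L
  have hy : ∀ x : B, ∃ y : B, mk x - σ (π x) = mk ((f : B) * y) := fun x => by
    obtain ⟨z, hz⟩ := Ideal.Quotient.mk_surjective (mk x - σ (π x))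
    have hzK : z ∈ K := by
      show π z = 0
      rw [← hq, show mk z = _ from hz, map_sub, hq, hσ, sub_self]
    obtain ⟨l, hl, m, hm, rfl⟩ := Submodule.mem_sup.mp (hKM hzK)
    obtain ⟨y, rfl⟩ := Ideal.mem_span_singleton'.mp hm
    refine ⟨y, hz.symm.trans ?_⟩
    rw [map_add, Ideal.Quotient.eq_zero_iff_mem.mpr hl, zero_add, mul_comm]
    rfl
  -- the annihilator of `f`
  have hJ : ∀ y : B, (f : B) * y ∈ L → ε y = 0 := by
    let J' : Ideal B := Submodule.comap (LinearMap.mulLeft B (f : B)) L
    have hKJ : K ≤ J' := fun x hx => hKK (Ideal.mul_mem_mul hfK hx)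
    have hne : Ideal.map (π : B →ₐ[k] A) J' ≠ ⊤ := fun htop => by
      obtain ⟨x, hx, hx1⟩ : ∃ x ∈ J', π x = 1 :=
        (Ideal.mem_map_iff_of_surjective (π : B →ₐ[k] A) hπ).mp (htop ▸ Submodule.mem_top)
      refine hfL ?_
      have : (1 : B) ∈ J' := by
        have := J'.add_mem (hKJ (show 1 - x ∈ K by show π (1 - x) = 0; rw [map_sub, map_one, hx1, sub_self])) hx
        rwa [sub_add_cancel] at this
      simpa [J'] using this
    obtain ⟨p, hp⟩ := ComodLib.exists_point (k := k) _ hne
    intro y hy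
    let g : WithConv (A →ₐ[k] k) := (toConv p)⁻¹
    have hinv : ∀ x ∈ L, rtr (ofSub π g) x ∈ L := fun x hx => by
      have : L ≤ Ideal.comap (rtr (ofSub π g)) L := Ideal.map_le_iff_le_comap.mpr fun z hz => by
        show rtr (ofSub π g) (z : B) ∈ L
        rw [rtr_ofSub_of_inv π z.2]
        exact Ideal.mem_map_of_mem _ hz
      exact this hx
    have h1 : rtr (ofSub π g) y ∈ J' := by
      have h := hinv _ hy
      rwa [map_mul, rtr_ofSub_of_inv π f.2] at h
    have h2 : (ofSub π (toConv p)) (rtr (ofSub π g) y) = 0 := hp (Ideal.mem_map_of_mem _ h1)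
    rw [apply_rtr, show cst k (ofSub π g) = ofSub π g from rfl, ← map_mul, mul_inv_cancel, map_one] at h2
    exact h2
  choose Y hY using hy
  have huniq : ∀ x y, mk x - σ (π x) = mk ((f : B) * y) → ε (Y x) = ε y := fun x y h => by
    rw [← sub_eq_zero, ← map_sub]
    refine hJ _ ?_
    rw [mul_sub, ← Ideal.Quotient.eq]
    exact (hY x).symm.trans h
  let θ : B →ₐ[k] DualNumber k :=
    { toFun := fun x => inl (ε x) + inr (ε (Y x))
      map_one' := by
        rw [huniq 1 0 (by simp)]
        simp
      map_zero' := by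
        rw [huniq 0 0 (by simp)]
        simp
      map_add' := fun x y => by
        rw [huniq (x + y) (Y x + Y y) (by rw [mul_add, map_add (mk), map_add, map_add, map_add, ← hY, ← hY]; abel)]
        refine TrivSqZeroExt.ext ?_ ?_ <;> simp
      map_mul' := fun x y => by
        rw [huniq (x * y) (x * Y y + y * Y x - (f : B) * Y x * Y y) (by
          have hσy : σ (π y) = mk y - mk ((f : B) * Y y) := by rw [← hY]; abel
          have hσx : σ (π x) = mk x - mk ((f : B) * Y x) := by rw [← hY]; abel
          rw [map_mul (π : B →ₐc[k] A), map_mul σ, hσx, hσy]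
          simp only [map_mul, map_sub, map_add]
          ring)]
        refine TrivSqZeroExt.ext ?_ ?_
        · simp
        · simp [show ε (f : B) = 0 from hf]
          ring
      commutes' := fun c => by
        rw [huniq (algebraMap k B c) 0 (by
          rw [show π (algebraMap k B c) = algebraMap k A c from AlgHom.commutes (π : B →ₐ[k] A) c,
            AlgHom.commutes, AlgHom.commutes]
          simp)]
        refine TrivSqZeroExt.ext ?_ ?_ <;> simp [TrivSqZeroExt.algebraMap_eq_inl'] }
  have hθ1 : push (TrivSqZeroExt.fstHom k k k) (toConv θ) = 1 := by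
    refine ofConv_injective (AlgHom.ext fun x => ?_)
    show fst (inl (ε x) + inr (ε (Y x)) : DualNumber k) = ε x
    simp
  have h0 : snd (inl (ε f) + inr (ε (Y f)) : DualNumber k) = 0 := h _ hθ1
  rw [huniq (f : B) 1 (by rw [mul_one, show π (f : B) = 0 from hfK, map_zero, sub_zero])] at h0
  simp at h0

/-- An invariant function singular at a point lies in the square of the ideal of the point. -/
theorem mem_sq_of_grad_eq_zero (hA : HopfRep.IsLinearlyReductive k A) (hπ : Function.Surjective π)
    (b : Pt k N k) (f : inv π) (hf : b (f : CoordGrp.GLn N k) = 0) (hg : grad b (f : CoordGrp.GLn N k) = 0) :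
    f ∈ vanish π b ^ 2 := by
  let T : ∀ c : Pt k N k, inv π →ₐ[k] inv π := fun c =>
    ((ltr c).comp (inv π).val).codRestrict (inv π) fun x => ltr_mem_inv π c x.2
  have hT : ∀ c (x : inv π) (y : Pt k N k), y ((T c x : inv π) : CoordGrp.GLn N k) = (c * y) (x : CoordGrp.GLn N k) :=
    fun c x y => apply_ltr c y _
  have h1 : T b f ∈ vanish π 1 ^ 2 := by
    refine mem_sq_of_tangent_one π hA hπ _ (by rw [hT, mul_one]; exact hf) fun θ hθ => ?_
    let z : Pt k N (DualNumber k) := cst _ b * θ * (cst _ b)⁻¹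
    have hz : push (TrivSqZeroExt.fstHom k k k) z = 1 := by
      rw [map_mul, map_mul, map_inv, hθ, mul_one, mul_inv_cancel]
    have h2 := tanFun_grad (Matrix.of fun p q => snd (mat z p q)) b (f : CoordGrp.GLn N k)
    rw [hg, map_zero] at h2
    simp only [Matrix.of_apply] at h2
    rw [← eq_tanPt z hz, inv_mul_cancel_right] at h2
    refine Eq.trans ?_ h2.symm
    exact congrArg snd (apply_ltr b θ (f : CoordGrp.GLn N k))
  have h3 : T b⁻¹ (T b f) = f := Subtype.ext (eq_of_forall_pt fun y => by rw [hT, hT, mul_inv_cancel_left])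
  rw [← h3]
  have h4 : Ideal.map (T b⁻¹) (vanish π 1 ^ 2) ≤ vanish π b ^ 2 := by
    rw [Ideal.map_pow]
    refine Ideal.pow_right_mono (Ideal.map_le_iff_le_comap.mpr fun x hx => ?_) 2
    show b ((T b⁻¹ x : inv π) : CoordGrp.GLn N k) = 0
    rw [hT, inv_mul_cancel]
    exact hx
  exact h4 (Ideal.mem_map_of_mem _ h1)

end Groth.Agent.HMGit
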